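import Groth.Agent.Hens.Stage
import Groth.Agent.Hens.Local
import Groth.Agent.GrpdLib.RingGrpdBC
import Mathlib.RingTheory.Unramified.Basic
import Mathlib.RingTheory.Etale.Basic

/-!
# Algebra lemmas: unramified algebras, stages of étale localisations, equalizers
-/

set_option autoImplicit false
set_option linter.style.haveILetI false
set_option backward.isDefEq.respectTransparency false
set_option backward.isDefEq.respectTransparency.types false

universe u

open TensorProduct

namespace Groth.Agent.GrpdLib.EtCart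

/-- Two maps out of an unramified algebra which agree at all geometric points over a point `φ` of an
integral base agree after multiplying by some element not vanishing at `φ`. -/
theorem exists_smul_eq_of_points {A A' R C₁ Ω : Type u} [CommRing A] [CommRing A'] [CommRing R]
    [CommRing C₁] [Field Ω] [IsAlgClosed Ω] [Algebra A A'] [Algebra.FormallyUnramified A A']
    [Algebra.EssFiniteType A A'] [Algebra A R] [Algebra C₁ R] [Algebra.IsIntegral C₁ R]
    (f g : A' →ₐ[A] R) (φ : C₁ →+* Ω)
    (h : ∀ ψ : R →+* Ω, ψ.comp (algebraMap C₁ R) = φ → ∀ a, ψ (f a) = ψ (g a)) :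
    ∃ s : C₁, φ s ≠ 0 ∧ ∀ a, algebraMap C₁ R s * f a = algebraMap C₁ R s * g a := by
  let L : A' ⊗[A] A' →ₐ[A] R := Algebra.TensorProduct.lift f g fun _ _ => Commute.all _ _
  let ε : R := L (Algebra.FormallyUnramified.elem A A')
  have hker : ∀ a, (g a - f a) * ε = 0 := fun a => by
    have := congrArg L (Algebra.FormallyUnramified.one_tmul_sub_tmul_one_mul_elem (R := A) a)
    simpa [L, ε] using this
  let I : Ideal C₁ := (Ideal.span {ε}).comap (algebraMap C₁ R)
  have hne : ¬ I ≤ RingHom.ker φ := by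
    intro hle
    let φ' : C₁ ⧸ I →+* Ω := Ideal.Quotient.lift I φ fun x hx => hle hx
    obtain ⟨ψ, hψ⟩ := exists_ringHom_of_isIntegral (S := R ⧸ Ideal.span {ε})
      (R := C₁ ⧸ I) Ideal.quotientMap_injective φ'
    have hψ0 : (ψ.comp (Ideal.Quotient.mk _)).comp (algebraMap C₁ R) = φ := by
      ext c
      exact DFunLike.congr_fun hψ (Ideal.Quotient.mk I c)
    let ψR := ψ.comp (Ideal.Quotient.mk (Ideal.span {ε}))
    let := (ψR.comp (algebraMap A R)).toAlgebra
    let ψA : R →ₐ[A] Ω := ⟨ψR, fun _ => rfl⟩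
    have hL : ψA.comp L = (ψA.comp f).comp (Algebra.TensorProduct.lmul' A) := by
      refine Algebra.TensorProduct.ext ?_ ?_
      · ext a; simp [L]
      · ext a
        simpa [L, ψA] using (h ψR hψ0 a).symm
    have h1 : ψR ε = 1 := by
      have := DFunLike.congr_fun hL (Algebra.FormallyUnramified.elem A A')
      simpa [Algebra.FormallyUnramified.lmul_elem, ψA, ε] using this
    have h0 : ψR ε = 0 := by
      show ψ (Ideal.Quotient.mk _ ε) = 0
      rw [Ideal.Quotient.eq_zero_iff_mem.2 (Ideal.mem_span_singleton_self ε), map_zero]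
    exact one_ne_zero (h1.symm.trans h0)
  obtain ⟨s, hs, hsφ⟩ := Set.not_subset.1 hne
  refine ⟨s, hsφ, fun a => ?_⟩
  obtain ⟨r, hr⟩ := Ideal.mem_span_singleton'.1 (Ideal.mem_comap.1 hs)
  have := hker a
  rw [← hr]
  linear_combination (-r) * this

/-- An element of a module over an étale stage which dies in the étale localisation is killed by an
element not vanishing at the point. -/
theorem exists_smul_eq_zero_of_tmul_eq_zero {C K : Type u} [CommRing C] [Field K] [Algebra C K]
    {C₁ : Type u} [CommRing C₁] [Algebra C C₁] [Algebra.Etale C C₁]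
    (θ : C₁ →ₐ[C] Hens.EtLoc C K) {M : Type u} [AddCommGroup M] [Module C₁ M] (x : M)
    (hx : (letI := θ.toRingHom.toAlgebra; (1 : Hens.EtLoc C K) ⊗ₜ[C₁] x = 0)) :
    ∃ s : C₁, Hens.point C K (θ s) ≠ 0 ∧ s • x = 0 := by
  letI := θ.toRingHom.toAlgebra
  haveI : IsScalarTower C C₁ (Hens.EtLoc C K) := .of_algebraMap_eq' θ.comp_algebraMap.symm
  haveI : Module.Flat C₁ (Hens.EtLoc C K) :=
    Algebra.FormallyUnramified.flat_of_restrictScalars C C₁ (Hens.EtLoc C K)
  let I : Ideal C₁ := LinearMap.ker (LinearMap.toSpanSingleton C₁ M x)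
  let j : C₁ ⧸ I →ₗ[C₁] M := I.liftQ (LinearMap.toSpanSingleton C₁ M x) le_rfl
  have hj : Function.Injective j := LinearMap.ker_eq_bot.1 (Submodule.ker_liftQ_eq_bot _ _ _ le_rfl)
  have h1 : (1 : Hens.EtLoc C K) ⊗ₜ[C₁] (Ideal.Quotient.mk I 1) = 0 := by
    refine Module.Flat.lTensor_preserves_injective_linearMap j hj ?_
    rw [LinearMap.lTensor_tmul, map_zero]
    rw [show j (Ideal.Quotient.mk I 1) = x from
      ((I.liftQ_apply _ 1).trans (one_smul C₁ x))]
    exact hx
  by_contra hne
  push Not at hne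
  have hI : I ≤ RingHom.ker ((Hens.point C K).comp θ).toRingHom := by
    intro s hs
    by_contra h0
    exact hne s h0 (by simpa [I] using hs)
  letI : Module C₁ K := Module.compHom K ((Hens.point C K).comp θ).toRingHom
  haveI : SMulCommClass C₁ C₁ K := ⟨fun a b z => by
    show (_ : K) * (_ * z) = _ * (_ * z)
    ring⟩
  let ev : Hens.EtLoc C K →ₗ[C₁] C₁ ⧸ I →ₗ[C₁] K :=
    LinearMap.mk₂ C₁ (fun e c => Hens.point C K e *
      Ideal.Quotient.lift I ((Hens.point C K).comp θ).toRingHom (fun a ha => hI ha) c)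
      (fun a b c => by simp [add_mul])
      (fun s a c => by
        show Hens.point C K (θ s * a) * _ = Hens.point C K (θ s) * (_ * _)
        rw [map_mul, mul_assoc])
      (fun a b c => by simp [mul_add])
      (fun s a c => by
        obtain ⟨c, rfl⟩ := Ideal.Quotient.mk_surjective c
        show Hens.point C K a * Ideal.Quotient.lift I _ _ (Ideal.Quotient.mk I (s * c)) = _ * (_ * _)
        simp [mul_left_comm])
  have := congrArg (TensorProduct.lift ev) h1
  simp [ev] at this

/-- Base change of an equalizer along a flat module. -/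
theorem rTensor_eqLocus {C M₀ M N : Type u} [CommRing C] [AddCommGroup M₀] [Module C M₀]
    [AddCommGroup M] [Module C M] [AddCommGroup N] [Module C N] (ι : M₀ →ₗ[C] M) (f g : M →ₗ[C] N)
    (hι : Function.Injective ι) (h : ∀ m, f m = g m ↔ m ∈ Set.range ι)
    (F : Type u) [AddCommGroup F] [Module C F] [Module.Flat C F] :
    Function.Injective (ι.rTensor F) ∧
      ∀ z, f.rTensor F z = g.rTensor F z → z ∈ Set.range (ι.rTensor F) := by
  refine ⟨Module.Flat.rTensor_preserves_injective_linearMap ι hι, fun z hz => ?_⟩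
  have hex : Function.Exact ι (f - g) := fun m => by
    rw [LinearMap.sub_apply, sub_eq_zero]
    exact h m
  exact (Module.Flat.rTensor_exact F hex z).1 (by rw [LinearMap.rTensor_sub, LinearMap.sub_apply, hz, sub_self])

end Groth.Agent.GrpdLib.EtCart

namespace Groth.Agent.GrpdLib.EtCart

attribute [local instance] Algebra.TensorProduct.rightAlgebra

/-- Base change of an integral algebra, with the scalars on the right. -/
theorem isIntegral_right (C A H : Type u) [CommRing C] [CommRing A] [CommRing H] [Algebra C A]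
    [Algebra C H] [Algebra.IsIntegral C A] : Algebra.IsIntegral H (A ⊗[C] H) := by
  refine ⟨fun z => ?_⟩
  induction z using TensorProduct.induction_on with
  | zero => exact isIntegral_zero
  | add u v hu hv => exact hu.add hv
  | tmul a h =>
    have h1 : IsIntegral H (a ⊗ₜ[C] (1 : H)) := by
      obtain ⟨q, hq, hq0⟩ := Algebra.IsIntegral.isIntegral (R := C) a
      refine ⟨q.map (algebraMap C H), hq.map _, ?_⟩
      rw [Polynomial.eval₂_map]
      have := congrArg (Algebra.TensorProduct.includeLeft : A →ₐ[C] A ⊗[C] H).toRingHom hq0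
      rw [Polynomial.hom_eval₂, map_zero] at this
      convert! this using 2
      ext c
      exact ((Algebra.TensorProduct.includeRight : H →ₐ[C] A ⊗[C] H).commutes c).trans
        ((Algebra.TensorProduct.includeLeft : A →ₐ[C] A ⊗[C] H).commutes c).symm
    have h2 : IsIntegral H ((1 : A) ⊗ₜ[C] h) := by
      rw [show (1 : A) ⊗ₜ[C] h = algebraMap H (A ⊗[C] H) h from rfl]
      exact isIntegral_algebraMap
    simpa using h1.mul h2

/-- The scalars on the right and on the left agree on the base. -/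
theorem isScalarTower_right (C A H : Type u) [CommRing C] [CommRing A] [CommRing H] [Algebra C A]
    [Algebra C H] : IsScalarTower C H (A ⊗[C] H) :=
  .of_algebraMap_eq fun c =>
    ((Algebra.TensorProduct.includeRight : H →ₐ[C] A ⊗[C] H).commutes c).symm

theorem exists_finset_mem_range {C K A : Type u} [CommRing C] [Field K] [Algebra C K] [CommRing A]
    [Algebra C A] (z : A ⊗[C] Hens.EtLoc C K) :
    ∃ T : Finset (Hens.EtLoc C K), ∀ (C₁ : Type u) [CommRing C₁] [Algebra C C₁]
      (θ : C₁ →ₐ[C] Hens.EtLoc C K), (∀ t ∈ T, t ∈ θ.range) →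
      z ∈ (Algebra.TensorProduct.map (AlgHom.id C A) θ).range := by
  classical
  induction z using TensorProduct.induction_on with
  | zero => exact ⟨∅, fun _ _ _ _ _ => zero_mem _⟩
  | tmul a h =>
    refine ⟨{h}, fun C₁ _ _ θ hθ => ?_⟩
    obtain ⟨c, rfl⟩ := hθ h (Finset.mem_singleton_self h)
    exact ⟨a ⊗ₜ c, by simp⟩
  | add u v hu hv =>
    obtain ⟨T₁, hT₁⟩ := hu
    obtain ⟨T₂, hT₂⟩ := hv
    exact ⟨T₁ ∪ T₂, fun C₁ _ _ θ hθ => add_mem
      (hT₁ C₁ θ fun t ht => hθ t (Finset.mem_union_left _ ht))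
      (hT₂ C₁ θ fun t ht => hθ t (Finset.mem_union_right _ ht))⟩

/-- A map from a finitely presented algebra to a base change to an étale localisation comes from a
finite étale stage. -/
theorem exists_stage_algHom {C K A A' : Type u} [CommRing C] [Field K] [Algebra C K] [CommRing A]
    [CommRing A'] [Algebra C A] [Algebra A A'] [Algebra.FinitePresentation A A']
    (η : A' →ₐ[A] A ⊗[C] Hens.EtLoc C K) :
    ∃ (C₁ : Type u) (_ : CommRing C₁) (_ : Algebra C C₁), Algebra.Etale C C₁ ∧
      ∃ (θ : C₁ →ₐ[C] Hens.EtLoc C K) (η₁ : A' →ₐ[A] A ⊗[C] C₁),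
        ∀ a, Algebra.TensorProduct.map (AlgHom.id C A) θ (η₁ a) = η a := by
  classical
  obtain ⟨n, π, hπ, E, hE⟩ := Algebra.FinitePresentation.out (R := A) (A := A')
  choose T hT using fun i : Fin n => exists_finset_mem_range (η (π (MvPolynomial.X i)))
  obtain ⟨C₁, _, _, hC₁, θ, hθ⟩ := Hens.exists_stage_finset (Finset.univ.biUnion T)
  choose z hz using fun i =>
    hT i C₁ θ fun t ht => hθ t (Finset.mem_biUnion.2 ⟨i, Finset.mem_univ _, ht⟩)
  let F : A ⊗[C] C₁ →ₐ[A] A ⊗[C] Hens.EtLoc C K :=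
    { (Algebra.TensorProduct.map (AlgHom.id C A) θ).toRingHom with
      commutes' := fun a => by
        show Algebra.TensorProduct.map (AlgHom.id C A) θ (a ⊗ₜ 1) = a ⊗ₜ 1
        simp }
  let φ : MvPolynomial (Fin n) A →ₐ[A] A ⊗[C] C₁ := MvPolynomial.aeval z
  have hφ : F.comp φ = η.comp π := MvPolynomial.algHom_ext fun i => by
    show Algebra.TensorProduct.map (AlgHom.id C A) θ (φ (MvPolynomial.X i)) = η (π (MvPolynomial.X i))
    rw [MvPolynomial.aeval_X]
    exact hz i
  letI : Algebra C₁ (Hens.EtLoc C K) := θ.toRingHom.toAlgebra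
  haveI : IsScalarTower C C₁ (Hens.EtLoc C K) := .of_algebraMap_eq' θ.comp_algebraMap.symm
  haveI := isScalarTower_right C A C₁
  let G : A ⊗[C] Hens.EtLoc C K →ₗ[C] Hens.EtLoc C K ⊗[C₁] (A ⊗[C] C₁) :=
    TensorProduct.lift (LinearMap.mk₂ C (fun a h => h ⊗ₜ[C₁] (a ⊗ₜ[C] (1 : C₁)))
      (fun a b h => by rw [TensorProduct.add_tmul, TensorProduct.tmul_add])
      (fun r a h => by rw [← TensorProduct.smul_tmul', TensorProduct.tmul_smul])
      (fun a h k => by rw [TensorProduct.add_tmul])
      (fun r a h => by rw [TensorProduct.smul_tmul']))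
  have hG : ∀ x, G (Algebra.TensorProduct.map (AlgHom.id C A) θ x) =
      (1 : Hens.EtLoc C K) ⊗ₜ[C₁] x := by
    intro x
    induction x using TensorProduct.induction_on with
    | zero => simp
    | add u v hu hv => simp [map_add, hu, hv, TensorProduct.tmul_add]
    | tmul a c =>
      show θ c ⊗ₜ[C₁] (a ⊗ₜ[C] (1 : C₁)) = _
      rw [show θ c = c • (1 : Hens.EtLoc C K) by rw [Algebra.smul_def, mul_one]; rfl,
        TensorProduct.smul_tmul]
      congr 1
      rw [Algebra.smul_def, Algebra.TensorProduct.right_algebraMap_apply,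
        Algebra.TensorProduct.tmul_mul_tmul, one_mul, mul_one]
  have hrel : ∀ e : E, ∃ s : C₁, Hens.point C K (θ s) ≠ 0 ∧ s • φ e = 0 := fun e => by
    refine exists_smul_eq_zero_of_tmul_eq_zero θ (φ e) ?_
    rw [← hG, show Algebra.TensorProduct.map (AlgHom.id C A) θ (φ e) = η (π e) from
      DFunLike.congr_fun hφ e.1]
    have : π e = 0 := (hE ▸ Ideal.subset_span e.2 : (e : MvPolynomial (Fin n) A) ∈ _)
    rw [this, map_zero, map_zero]
  choose s hs hs' using hrel
  let S := ∏ e : E, s e
  have hu : IsUnit (θ S) := isUnit_of_map_unit (Hens.point C K).toRingHom _ (IsUnit.mk0 _ (by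
    simp only [S, AlgHom.toRingHom_eq_coe, RingHom.coe_coe, map_prod]
    exact Finset.prod_ne_zero_iff.2 fun e _ => hs e))
  let loc : C₁ →ₐ[C] Localization.Away S := IsScalarTower.toAlgHom C C₁ _
  let L : A ⊗[C] C₁ →ₐ[A] A ⊗[C] Localization.Away S :=
    { (Algebra.TensorProduct.map (AlgHom.id C A) loc).toRingHom with
      commutes' := fun a => by
        show Algebra.TensorProduct.map (AlgHom.id C A) loc (a ⊗ₜ 1) = a ⊗ₜ 1
        simp }
  have hker : RingHom.ker π.toRingHom ≤ RingHom.ker (L.comp φ).toRingHom := by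
    rw [← hE, Ideal.span_le]
    intro e he
    show L (φ e) = 0
    have h0 : ((1 : A) ⊗ₜ[C] s ⟨e, he⟩) * φ e = 0 := by
      have := hs' ⟨e, he⟩
      rwa [Algebra.smul_def, Algebra.TensorProduct.right_algebraMap_apply] at this
    obtain ⟨d, hd⟩ := Finset.dvd_prod_of_mem s (Finset.mem_univ (⟨e, he⟩ : E))
    have hu' : IsUnit ((1 : A) ⊗ₜ[C] loc (s ⟨e, he⟩)) := by
      refine IsUnit.map (Algebra.TensorProduct.includeRight (R := C) (A := A)) ?_
      refine isUnit_of_mul_isUnit_left (y := loc d) ?_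
      rw [← map_mul, ← hd]
      exact IsLocalization.Away.algebraMap_isUnit (S := Localization.Away S) S
    refine hu'.mul_left_cancel ?_
    rw [mul_zero, show (1 : A) ⊗ₜ[C] loc (s ⟨e, he⟩) = L (1 ⊗ₜ s ⟨e, he⟩) from
      (Algebra.TensorProduct.map_tmul (AlgHom.id C A) loc 1 _).symm, ← map_mul, h0, map_zero]
  haveI := Algebra.Etale.of_isLocalizationAway (A := Localization.Away S) S
  refine ⟨Localization.Away S, _, _, Algebra.Etale.comp C C₁ _, Hens.awayExt θ S hu,
    AlgHom.liftOfSurjective π hπ (L.comp φ) hker, fun a => ?_⟩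
  obtain ⟨y, rfl⟩ := hπ a
  rw [AlgHom.liftOfSurjective_apply]
  show Algebra.TensorProduct.map (AlgHom.id C A) _
    (Algebra.TensorProduct.map (AlgHom.id C A) loc (φ y)) = _
  rw [← AlgHom.comp_apply, ← Algebra.TensorProduct.map_comp, AlgHom.comp_id, Hens.awayExt_comp]
  exact DFunLike.congr_fun hφ y

/-- An element of a module which vanishes on a flat covering of the base is zero. -/
theorem eq_zero_of_flat_cover {C' M : Type u} [CommRing C'] [AddCommGroup M] [Module C' M] (x : M)
    (h : ∀ q : Ideal C', q.IsPrime → ∃ (C₁ : Type u) (_ : CommRing C₁) (_ : Algebra C' C₁),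
      Module.Flat C' C₁ ∧ (∃ p : Ideal C₁, p.IsPrime ∧ p.comap (algebraMap C' C₁) = q) ∧
        (1 : C₁) ⊗ₜ[C'] x = 0) : x = 0 := by
  let I : Ideal C' := LinearMap.ker (LinearMap.toSpanSingleton C' M x)
  by_contra hx
  have hI : I ≠ ⊤ := fun h0 => hx (by
    have : (1 : C') ∈ I := h0 ▸ Submodule.mem_top
    simpa [I] using this)
  obtain ⟨q, hq, hIq⟩ := Ideal.exists_le_maximal I hI
  obtain ⟨C₁, _, _, hflat, ⟨p, hp, hpq⟩, h0⟩ := h q hq.isPrime
  let j : C' ⧸ I →ₗ[C'] M := I.liftQ (LinearMap.toSpanSingleton C' M x) le_rfl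
  have hj : Function.Injective j := LinearMap.ker_eq_bot.1 (Submodule.ker_liftQ_eq_bot _ _ _ le_rfl)
  have h1 : (1 : C₁) ⊗ₜ[C'] (Ideal.Quotient.mk I 1) = 0 := by
    refine Module.Flat.lTensor_preserves_injective_linearMap j hj ?_
    rw [LinearMap.lTensor_tmul, map_zero,
      show j (Ideal.Quotient.mk I 1) = x from (I.liftQ_apply _ 1).trans (one_smul C' x)]
    exact h0
  have hle : I ≤ RingHom.ker ((Ideal.Quotient.mk p).comp (algebraMap C' C₁)) := fun c hc => by
    rw [RingHom.mem_ker, RingHom.comp_apply, Ideal.Quotient.eq_zero_iff_mem, ← Ideal.mem_comap, hpq]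
    exact hIq hc
  let q' : C' ⧸ I →ₐ[C'] C₁ ⧸ p := Ideal.Quotient.liftₐ I (IsScalarTower.toAlgHom C' C' _)
    fun c hc => hle hc
  have h2 := congrArg (Algebra.TensorProduct.productMap (Ideal.Quotient.mkₐ C' p) q') h1
  rw [map_zero, Algebra.TensorProduct.productMap_apply_tmul, map_one, one_mul,
    show Ideal.Quotient.mk I (1 : C') = 1 from map_one _, map_one] at h2
  exact hp.ne_top (Ideal.Quotient.zero_eq_one_iff.1 h2.symm)

end Groth.Agent.GrpdLib.EtCart
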