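import Groth.Agent.Hens.Local
import Mathlib.FieldTheory.SeparableClosure
import Mathlib.FieldTheory.IsSepClosed
import Mathlib.RingTheory.Polynomial.ScaleRoots

/-!
# Étale localisations with separably closed residue field
-/

set_option autoImplicit false
set_option linter.style.haveILetI false
set_option backward.isDefEq.respectTransparency false
set_option backward.isDefEq.respectTransparency.types false

universe u

open Polynomial

namespace Groth.Agent.GrpdLib.EtCart

/-- For every geometric point `φ` of `C` there is an étale localisation whose residue field is a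
separably closed subfield of the geometric point. -/
theorem exists_sepClosed_point {C Ω : Type u} [CommRing C] [Field Ω] [IsAlgClosed Ω] (φ : C →+* Ω) :
    ∃ (K : Type u) (_ : Field K) (_ : Algebra C K), IsSepClosed K ∧
      Function.Surjective (Hens.point C K) ∧ ∃ j : K →+* Ω, j.comp (algebraMap C K) = φ := by
  classical
  let κ : Subfield Ω := Subfield.closure (Set.range φ)
  let K := separableClosure κ Ω
  have hφκ : ∀ c, φ c ∈ κ := fun c => Subfield.subset_closure ⟨c, rfl⟩
  let φκ : C →+* κ := φ.codRestrict κ hφκ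
  letI : Algebra C K := ((algebraMap κ K).comp φκ).toAlgebra
  have : IsSepClosed K := IsSepClosure.sep_closed κ
  refine ⟨K, inferInstance, inferInstance, this, fun a => ?_, K.val.toRingHom, rfl⟩
  have hκ : ∀ x : κ, ∃ b d, φκ d ≠ 0 ∧ x * φκ d = φκ b := by
    intro x
    obtain ⟨y, hy, z, hz, hyz⟩ := Subfield.mem_closure_iff.1 x.2
    rw [← RingHom.coe_range, Subring.closure_eq] at hy hz
    obtain ⟨b, rfl⟩ := hy
    obtain ⟨d, rfl⟩ := hz
    by_cases hd : φ d = 0
    · refine ⟨0, 1, by simp, ?_⟩
      have : x = 0 := Subtype.ext (by rw [← hyz, hd, div_zero]; rfl)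
      simp [this]
    · refine ⟨b, d, fun h => hd (congrArg Subtype.val h), Subtype.ext ?_⟩
      show (x : Ω) * φ d = φ b
      rw [← hyz, div_mul_cancel₀ _ hd]
  have hsep : IsSeparable κ a := Algebra.IsSeparable.isSeparable κ a
  let P := minpoly κ a
  have hPm : P.Monic := minpoly.monic hsep.isIntegral
  choose b d hd hbd using fun i => hκ (P.coeff i)
  let c := ∏ i ∈ Finset.range P.natDegree, d i
  have hc : φκ c ≠ 0 := by
    simp only [c, map_prod]
    exact Finset.prod_ne_zero_iff.2 fun i _ => hd i
  let P₂ := P.scaleRoots (φκ c)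
  have hP₂ : P₂.Monic := (monic_scaleRoots_iff _).2 hPm
  have hlift : P₂ ∈ Polynomial.lifts φκ := by
    rw [Polynomial.lifts_iff_coeff_lifts]
    intro i
    rcases lt_trichotomy i P.natDegree with hi | hi | hi
    · obtain ⟨e, he⟩ := Finset.dvd_prod_of_mem d (Finset.mem_range.2 hi)
      refine ⟨b i * e * c ^ (P.natDegree - i - 1), ?_⟩
      rw [coeff_scaleRoots, show P.natDegree - i = (P.natDegree - i - 1) + 1 by omega, pow_succ]
      simp only [map_mul, map_pow, Nat.add_sub_cancel, ← hbd]
      rw [show φκ c = φκ (d i) * φκ e by rw [← map_mul, ← he]]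
      ring
    · exact ⟨1, by rw [hi, coeff_scaleRoots_natDegree, hPm.leadingCoeff, map_one]⟩
    · exact ⟨0, by rw [map_zero, coeff_scaleRoots, coeff_eq_zero_of_natDegree_lt hi, zero_mul]⟩
  obtain ⟨F, hF, -, hFm⟩ := Polynomial.lifts_and_natDegree_eq_and_monic hlift hP₂
  let a' : K := algebraMap C K c * a
  have hev : ∀ p : C[X], aeval a' p = eval₂ (algebraMap κ K) a' (p.map φκ) := fun p => by
    rw [eval₂_map]; rfl
  have hcomp : P₂.comp (Polynomial.C (φκ c) * X) = Polynomial.C (φκ c) ^ P.natDegree * P := by
    rw [comp, scaleRoots_eval₂_mul, eval₂_C_X]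
  have hder : eval₂ (algebraMap κ K) a' (derivative P₂) ≠ 0 := by
    intro h0
    have := congrArg (fun q => eval₂ (algebraMap κ K) a (derivative q)) hcomp
    simp only [derivative_comp, derivative_mul, derivative_C, zero_mul, zero_add, derivative_X,
      mul_one, eval₂_mul, eval₂_comp, eval₂_C, eval₂_X, ← Polynomial.C_pow] at this
    rw [show algebraMap κ K (φκ c) * a = a' from rfl, h0, mul_zero] at this
    rcases mul_eq_zero.1 this.symm with h | h
    · exact pow_ne_zero _ hc ((algebraMap κ K).injective (by simpa using h))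
    · exact hsep.aeval_derivative_ne_zero (minpoly.aeval _ _) h
  let SP : StandardEtalePair C := ⟨F, hFm, derivative F, 1, 0, 1, by simp⟩
  have hSP : SP.HasMap a' := by
    refine ⟨?_, IsUnit.mk0 _ ?_⟩
    · show aeval a' F = 0
      rw [hev, hF]
      show eval₂ _ (algebraMap κ K (φκ c) * a) _ = 0
      rw [scaleRoots_eval₂_mul, show eval₂ (algebraMap κ K) a P = 0 from minpoly.aeval _ _,
        mul_zero]
    · show aeval a' (derivative F) ≠ 0
      rwa [hev, ← derivative_map, hF]
  have hu : IsUnit (algebraMap C (Hens.EtLoc C K) c) := by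
    by_contra hu
    have := (Hens.mem_maximalIdeal_iff_point _).1 ((IsLocalRing.mem_maximalIdeal _).2 hu)
    rw [AlgHom.commutes] at this
    exact hc ((algebraMap κ K).injective (this.trans (map_zero _).symm))
  obtain ⟨v, hv⟩ := isUnit_iff_exists_inv.1 hu
  refine ⟨Hens.gen ⟨SP, a', hSP⟩ * v, ?_⟩
  have hv' := congrArg (Hens.point C K) hv
  rw [map_mul, map_one, AlgHom.commutes] at hv'
  rw [map_mul, Hens.point_gen]
  show algebraMap C K c * a * _ = a
  rw [mul_right_comm, hv', one_mul]

end Groth.Agent.GrpdLib.EtCart
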