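import Groth.Agent.Hens.Local
import Groth.Agent.Hens.PairHfp
import Groth.Agent.GrpdLib.RingGrpdBC
import Mathlib.RingTheory.Unramified.Field
import Mathlib.FieldTheory.PurelyInseparable.Basic

/-!
# Sections of étale algebras over integral algebras of strictly henselian rings
-/

set_option autoImplicit false
set_option maxHeartbeats 400000
set_option linter.style.haveILetI false
set_option backward.isDefEq.respectTransparency false
set_option backward.isDefEq.respectTransparency.types false

universe u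

open TensorProduct

namespace Groth.Agent.GrpdLib.EtCart

/-- Values of geometric points of étale algebras over a purely inseparable extension of a separably
closed field lie in that extension. -/
theorem mem_of_etale {K Ω A A' : Type u} [Field K] [IsSepClosed K] [Field Ω] [Algebra K Ω]
    [CommRing A] [CommRing A'] [Algebra A A'] [Algebra.Etale A A'] (L : IntermediateField K Ω)
    [Algebra.IsAlgebraic K L] (x : A →+* L) (x' : A' →+* Ω)
    (hx : ∀ a, x' (algebraMap A A' a) = x a) (y : A') : x' y ∈ L := by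
  letI := x.toAlgebra
  letI : Algebra A Ω := ((algebraMap L Ω).comp x).toAlgebra
  haveI : IsScalarTower A L Ω := .of_algebraMap_eq' rfl
  let xA : A' →ₐ[A] Ω := ⟨x', hx⟩
  let Λ : L ⊗[A] A' →ₐ[L] Ω :=
    Algebra.TensorProduct.lift (Algebra.ofId L Ω) xA fun _ _ => Commute.all _ _
  haveI : Algebra.FormallyUnramified L Λ.range :=
    Algebra.FormallyUnramified.of_surjective Λ.rangeRestrict Λ.rangeRestrict_surjective
  haveI : Algebra.FiniteType L Λ.range :=
    Algebra.FiniteType.of_surjective Λ.rangeRestrict Λ.rangeRestrict_surjective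
  haveI : Module.Finite L Λ.range := Algebra.FormallyUnramified.finite_of_free L Λ.range
  have hF : IsField Λ.range :=
    isField_of_isIntegral_of_isField' (Field.toIsField L)
  let F : IntermediateField L Ω := Λ.range.toIntermediateField' hF
  let e : Λ.range ≃ₐ[L] F :=
    { toFun := id
      invFun := id
      left_inv := fun _ => rfl
      right_inv := fun _ => rfl
      map_mul' := fun _ _ => rfl
      map_add' := fun _ _ => rfl
      commutes' := fun _ => rfl }
  haveI : Algebra.FormallyUnramified L F := Algebra.FormallyUnramified.of_equiv e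
  haveI : Module.Finite L F := Module.Finite.equiv e.toLinearEquiv
  haveI : Algebra.IsSeparable L F := Algebra.FormallyUnramified.isSeparable L F
  haveI : Algebra.IsAlgebraic K F := Algebra.IsAlgebraic.trans K L F
  haveI : IsPurelyInseparable L F := IsPurelyInseparable.tower_top K L F
  have hy : x' y ∈ F := ⟨1 ⊗ₜ y, by simp [Λ, xA]⟩
  obtain ⟨l, hl⟩ := (IsPurelyInseparable.bijective_algebraMap_of_isSeparable L F).2 ⟨_, hy⟩
  have : x' y = (l : Ω) := (congrArg (fun z : F => (z : Ω)) hl).symm
  rw [this]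
  exact l.2

/-- An étale algebra `A'` over an algebra `A` integral over `C` has a section over `A ⊗ EtLoc C K`
inducing any given choice of lifts of the finitely many geometric points. -/
theorem exists_section {C A A' K Ω : Type u} [CommRing C] [CommRing A] [CommRing A'] [Algebra C A]
    [Algebra.IsIntegral C A] [Algebra A A'] [Algebra.Etale A A'] [Field K] [Algebra C K]
    [IsSepClosed K] (hK : Function.Surjective (Hens.point C K)) [Field Ω] [IsAlgClosed Ω]
    (j : K →+* Ω) [Finite {x : A →+* Ω // x.comp (algebraMap C A) = j.comp (algebraMap C K)}]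
    (x' : {x : A →+* Ω // x.comp (algebraMap C A) = j.comp (algebraMap C K)} → A' →+* Ω)
    (hx' : ∀ x, (x' x).comp (algebraMap A A') = x.1) :
    ∃ η : A' →ₐ[A] A ⊗[C] Hens.EtLoc C K,
      ∀ ξ : A ⊗[C] Hens.EtLoc C K →+* Ω,
        (∀ h, ξ (1 ⊗ₜ h) = j (Hens.point C K h)) →
        ∀ x, (∀ a, ξ (a ⊗ₜ 1) = x.1 a) → ∀ y, ξ (η y) = x' x y := by
  letI : Algebra K Ω := j.toAlgebra
  letI : Algebra C Ω := (j.comp (algebraMap C K)).toAlgebra
  haveI : IsScalarTower C K Ω := .of_algebraMap_eq' rfl
  let P := {x : A →+* Ω // x.comp (algebraMap C A) = j.comp (algebraMap C K)}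
  let H := Hens.EtLoc C K
  let ιA : H →ₐ[C] Ω := (IsScalarTower.toAlgHom C K Ω).comp (Hens.point C K)
  letI : Algebra H (A ⊗[C] H) := Algebra.TensorProduct.rightAlgebra
  haveI : Algebra.IsIntegral H (A ⊗[C] H) := ⟨fun z => by
    induction z using TensorProduct.induction_on with
    | zero => exact isIntegral_zero
    | add u v hu hv => exact hu.add hv
    | tmul a h =>
      have h1 : IsIntegral H (a ⊗ₜ[C] (1 : H)) := by
        obtain ⟨q, hq, hq0⟩ := Algebra.IsIntegral.isIntegral (R := C) a
        refine ⟨q.map (algebraMap C H), hq.map _, ?_⟩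
        rw [Polynomial.eval₂_map]
        have := congrArg (Algebra.TensorProduct.includeLeft : A →ₐ[C] A ⊗[C] H).toRingHom hq0
        rw [Polynomial.hom_eval₂, map_zero] at this
        convert! this using 2
        ext c
        exact ((Algebra.TensorProduct.includeRight : H →ₐ[C] A ⊗[C] H).commutes c).trans
          ((Algebra.TensorProduct.includeLeft : A →ₐ[C] A ⊗[C] H).commutes c).symm
      have h2 : IsIntegral H ((1 : A) ⊗ₜ[C] h) := by
        rw [show (1 : A) ⊗ₜ[C] h = algebraMap H (A ⊗[C] H) h from rfl]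
        exact isIntegral_algebraMap
      simpa using h1.mul h2⟩
  let ξ : P → A ⊗[C] H →ₐ[C] Ω := fun x =>
    Algebra.TensorProduct.productMap ⟨x.1, fun c => DFunLike.congr_fun x.2 c⟩ ιA
  have hξr : ∀ x h, ξ x (1 ⊗ₜ h) = j (Hens.point C K h) := fun x h => by simp [ξ, ιA]; rfl
  have hξl : ∀ x a, ξ x (a ⊗ₜ 1) = x.1 a := fun x a => by simp [ξ]
  have huniq : ∀ ζ : A ⊗[C] H →+* Ω, (∀ h, ζ (1 ⊗ₜ h) = j (Hens.point C K h)) →
      ∀ x, (∀ a, ζ (a ⊗ₜ 1) = x.1 a) → ∀ z, ζ z = ξ x z := by
    intro ζ h1 x h2 z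
    induction z using TensorProduct.induction_on with
    | zero => simp
    | add u v hu hv => rw [map_add, map_add, hu, hv]
    | tmul a h =>
      rw [show a ⊗ₜ[C] h = (a ⊗ₜ 1) * (1 ⊗ₜ h) by simp, map_mul, map_mul, h1, h2, hξr, hξl]
  -- the residue fields of the closed points
  let L₀ : P → Subalgebra K Ω := fun x =>
    { carrier := Set.range (ξ x)
      mul_mem' := by rintro _ _ ⟨u, rfl⟩ ⟨v, rfl⟩; exact ⟨u * v, map_mul _ _ _⟩
      add_mem' := by rintro _ _ ⟨u, rfl⟩ ⟨v, rfl⟩; exact ⟨u + v, map_add _ _ _⟩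
      algebraMap_mem' := fun k => by
        obtain ⟨h, rfl⟩ := hK k
        exact ⟨1 ⊗ₜ h, hξr x h⟩ }
  have hLint : ∀ x, Algebra.IsIntegral K (L₀ x) := fun x => ⟨fun ⟨_, z, rfl⟩ => by
    refine (isIntegral_algHom_iff (L₀ x).val Subtype.val_injective).1 ?_
    obtain ⟨q, hq, hq0⟩ := Algebra.IsIntegral.isIntegral (R := H) z
    refine ⟨q.map (Hens.point C K).toRingHom, hq.map _, ?_⟩
    show Polynomial.eval₂ _ (ξ x z) _ = 0
    rw [Polynomial.eval₂_map]
    have := congrArg (ξ x).toRingHom hq0
    rw [Polynomial.hom_eval₂, map_zero] at this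
    convert! this using 2
    ext h
    exact (hξr x h).symm⟩
  have hLfield : ∀ x, IsField (L₀ x) := fun x =>
    have := hLint x
    isField_of_isIntegral_of_isField' (Field.toIsField K)
  let L : P → IntermediateField K Ω := fun x => (L₀ x).toIntermediateField' (hLfield x)
  have hLalg : ∀ x, Algebra.IsAlgebraic K (L x) := fun x => ⟨fun z => by
    have := hLint x
    exact (isAlgebraic_algHom_iff (L x).val Subtype.val_injective).1
      ((isAlgebraic_algHom_iff (L₀ x).val Subtype.val_injective).2
        (Algebra.IsIntegral.isIntegral (R := K) (⟨z.1, z.2⟩ : L₀ x)).isAlgebraic)⟩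
  let pr : ∀ x, A ⊗[C] H →+* L x := fun x => (ξ x).toRingHom.codRestrict (L x) fun z => ⟨z, rfl⟩
  have hpr : ∀ x, Function.Surjective (pr x) := fun x w => by
    obtain ⟨v, z, hz⟩ := w
    exact ⟨z, Subtype.ext hz⟩
  let Px : P → Ideal (A ⊗[C] H) := fun x => RingHom.ker (pr x)
  have hPmax : ∀ x, (Px x).IsMaximal := fun x => RingHom.ker_isMaximal_of_surjective _ (hpr x)
  have hPinj : Function.Injective Px := by
    intro x y hxy
    let u : L x →+* L y := (pr x).liftOfSurjective (hpr x) ⟨pr y, hxy.le⟩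
    have hu : ∀ z, u (pr x z) = pr y z := fun z =>
      RingHom.liftOfRightInverse_comp_apply _ _ _ ⟨pr y, hxy.le⟩ z
    haveI := hLalg x
    haveI : IsPurelyInseparable K (L x) := inferInstance
    have hkey : ((L y).val.toRingHom.comp u) = (L x).val.toRingHom := by
      refine IsPurelyInseparable.injective_comp_algebraMap K (L x) Ω ?_
      refine RingHom.ext fun k => ?_
      obtain ⟨h, rfl⟩ := hK k
      have h2 : pr x (1 ⊗ₜ h) = algebraMap K (L x) (Hens.point C K h) := Subtype.ext (hξr x h)
      show (u (algebraMap K (L x) (Hens.point C K h)) : Ω) = _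
      rw [← h2, hu]
      exact hξr y h
    refine Subtype.ext (RingHom.ext fun a => ?_)
    rw [← hξl x a, ← hξl y a]
    have := DFunLike.congr_fun hkey (pr x (a ⊗ₜ 1))
    simp only [RingHom.comp_apply, hu] at this
    exact this.symm
  let J : Ideal (A ⊗[C] H) := ⨅ x, Px x
  let I : Ideal (A ⊗[C] H) := (IsLocalRing.maximalIdeal H).map (algebraMap H (A ⊗[C] H))
  have hJ : J ≤ I.radical := by
    intro z hz
    rw [Ideal.radical_eq_sInf]
    refine Submodule.mem_sInf.2 fun Q ⟨hIQ, hQ⟩ => ?_
    have hmax : IsLocalRing.maximalIdeal H ≤ Ideal.comap (algebraMap H (A ⊗[C] H)) Q := fun h hh =>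
      Ideal.mem_comap.2 (hIQ (Ideal.mem_map_of_mem (algebraMap H (A ⊗[C] H)) hh))
    have hm := (IsLocalRing.maximalIdeal.isMaximal H).eq_of_le
      (Ideal.IsPrime.ne_top (Ideal.comap_isPrime _ Q)) hmax
    haveI : Ideal.LiesOver Q (IsLocalRing.maximalIdeal H) := ⟨hm⟩
    haveI : Ideal.IsPrime Q := hQ
    letI := Ideal.Quotient.field (IsLocalRing.maximalIdeal H)
    obtain ⟨ψ, hψ⟩ := exists_ringHom_quotient (IsLocalRing.maximalIdeal H) Q
      (Ideal.Quotient.lift _ ιA.toRingHom fun h hh => by
        show j (Hens.point C K h) = 0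
        rw [(Hens.mem_maximalIdeal_iff_point h).1 hh, map_zero]) (RingHom.injective _)
    let ζ : A ⊗[C] H →+* Ω := ψ.comp (Ideal.Quotient.mk Q)
    have hζr : ∀ h, ζ (1 ⊗ₜ h) = j (Hens.point C K h) := fun h =>
      DFunLike.congr_fun hψ (Ideal.Quotient.mk _ h)
    let x : P := ⟨ζ.comp Algebra.TensorProduct.includeLeftRingHom, by
      refine RingHom.ext fun c => ?_
      show ζ (algebraMap C A c ⊗ₜ 1) = j (algebraMap C K c)
      rw [← (Hens.point C K).commutes c, ← hζr]
      congr 1
      exact ((Algebra.TensorProduct.includeLeft : A →ₐ[C] A ⊗[C] H).commutes c).trans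
        ((Algebra.TensorProduct.includeRight : H →ₐ[C] A ⊗[C] H).commutes c).symm⟩
    have hzx : pr x z = 0 := (Submodule.mem_iInf _).1 hz x
    have hz0 : ψ (Ideal.Quotient.mk Q z) = 0 := by
      show ζ z = 0
      rw [huniq ζ hζr x (fun _ => rfl) z]
      exact congrArg Subtype.val hzx
    have hker : RingHom.ker ψ = ⊥ := by
      have : (RingHom.ker ψ).IsPrime := RingHom.ker_isPrime ψ
      refine Ideal.eq_bot_of_comap_eq_bot (R := H ⧸ IsLocalRing.maximalIdeal H) ?_
      refine eq_bot_iff.2 fun h hh => ?_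
      rw [Ideal.mem_comap, RingHom.mem_ker] at hh
      rw [Ideal.mem_bot]
      refine RingHom.injective _ ((DFunLike.congr_fun hψ h).symm.trans ?_ |>.trans (map_zero _).symm)
      exact hh
    rw [← Ideal.Quotient.eq_zero_iff_mem]
    exact (RingHom.injective_iff_ker_eq_bot ψ).2 hker (hz0.trans (map_zero ψ).symm)
  haveI : HenselianRing (A ⊗[C] H) I :=
    Hensel.henselianRing_of_isIntegral (I := IsLocalRing.maximalIdeal H) (A ⊗[C] H)
  haveI : HenselianRing (A ⊗[C] H) J := Hensel.henselianRing_of_radical_eq (I := I) hJ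
  have hcop : Pairwise fun x y => IsCoprime (Px x) (Px y) := fun x y hxy =>
    Ideal.isCoprime_iff_sup_eq.2 ((hPmax x).coprime_of_ne (hPmax y) fun h => hxy (hPinj h))
  have hval : ∀ x (a' : A'), ∃ r, ξ x r = x' x a' := fun x a' => by
    haveI := hLalg x
    exact mem_of_etale (L x) ((pr x).comp Algebra.TensorProduct.includeLeftRingHom) (x' x)
      (fun a => (DFunLike.congr_fun (hx' x) a).trans (hξl x a).symm) a'
  choose r hr using hval
  have hsec : ∀ a', ∃ z : A ⊗[C] H, ∀ x, ξ x z = x' x a' := fun a' => by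
    obtain ⟨z, hz⟩ := Ideal.quotientInfToPiQuotient_surj hcop fun x => Ideal.Quotient.mk _ (r x a')
    obtain ⟨z, rfl⟩ := Ideal.Quotient.mk_surjective z
    refine ⟨z, fun x => ?_⟩
    have := congrFun hz x
    rw [Ideal.quotientInfToPiQuotient_mk'] at this
    rw [← hr x a']
    have h0 : pr x (z - r x a') = 0 := Ideal.Quotient.eq.1 this
    rw [map_sub, sub_eq_zero] at h0
    exact congrArg Subtype.val h0
  choose z hz using hsec
  have hext : ∀ u v : A ⊗[C] H, (∀ x, ξ x u = ξ x v) → Ideal.Quotient.mk J u = Ideal.Quotient.mk J v :=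
    fun u v h => Ideal.Quotient.eq.2 ((Submodule.mem_iInf _).2 fun x => by
      show pr x (u - v) = 0
      rw [map_sub, sub_eq_zero]
      exact Subtype.ext (h x))
  let σ : A' →ₐ[A] (A ⊗[C] H) ⧸ J :=
    { toFun := fun a' => Ideal.Quotient.mk J (z a')
      map_one' := by rw [hext (z 1) 1 fun x => by simp [hz], map_one]
      map_mul' := fun a b => by rw [hext (z (a * b)) (z a * z b) fun x => by simp [hz], map_mul]
      map_zero' := by rw [hext (z 0) 0 fun x => by simp [hz], map_zero]
      map_add' := fun a b => by rw [hext (z (a + b)) (z a + z b) fun x => by simp [hz], map_add]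
      commutes' := fun a => hext _ _ fun x => by
        rw [hz, Algebra.TensorProduct.algebraMap_apply, Algebra.algebraMap_self, RingHom.id_apply, hξl]
        exact DFunLike.congr_fun (hx' x) a }
  obtain ⟨η, hη⟩ := Hens.exists_algHom_lift_etale σ
  refine ⟨η, fun ζ h1 x h2 y => ?_⟩
  rw [huniq ζ h1 x h2, ← hz y x]
  have h0 : pr x (η y - z y) = 0 := (Submodule.mem_iInf _).1 (Ideal.Quotient.eq.1 (hη y)) x
  rw [map_sub, sub_eq_zero] at h0
  exact congrArg Subtype.val h0

end Groth.Agent.GrpdLib.EtCart
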