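import Groth.Agent.GrpdLib.EtCart.Algebra
import Groth.Agent.GrpdLib.EtCart.Residue
import Groth.Agent.GrpdLib.EtCart.Section

/-!
# Étale cartesian morphisms of affine groupoids: the quotient map is étale and the square cartesian
-/

set_option autoImplicit false
set_option maxHeartbeats 400000
set_option linter.style.haveILetI false
set_option backward.isDefEq.respectTransparency false
set_option backward.isDefEq.respectTransparency.types false

universe u

open TensorProduct

namespace Groth.Agent.GrpdLib.EtCart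

variable (C A B C' A' B' : Type u) [CommRing C] [CommRing A] [CommRing B] [CommRing C'] [CommRing A']
  [CommRing B'] [Algebra C A] [Algebra C B] [Algebra C C'] [Algebra C A'] [Algebra C B']
  [Algebra A A'] [Algebra C' A'] [IsScalarTower C A A'] [IsScalarTower C C' A']

/-- The ring data of a cartesian morphism of groupoids with invariant rings `C` and `C'`. -/
structure Data where
  σ : A →ₐ[C] B
  τ : A →ₐ[C] B
  σ' : A' →ₐ[C] B'
  τ' : A' →ₐ[C] B'
  fB : B →ₐ[C] B'
  σ_comm : ∀ a, σ' (algebraMap A A' a) = fB (σ a)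
  τ_comm : ∀ a, τ' (algebraMap A A' a) = fB (τ a)
  descσ : ∀ {T : Type u} [CommRing T] (f : B →+* T) (g : A' →+* T),
    (∀ a, f (σ a) = g (algebraMap A A' a)) →
      ∃ h : B' →+* T, (∀ b, h (fB b) = f b) ∧ ∀ a, h (σ' a) = g a
  extσ : ∀ {T : Type u} [CommRing T] (h₁ h₂ : B' →+* T),
    (∀ b, h₁ (fB b) = h₂ (fB b)) → (∀ a, h₁ (σ' a) = h₂ (σ' a)) → h₁ = h₂
  extτ : ∀ {T : Type u} [CommRing T] (h₁ h₂ : B' →+* T),
    (∀ b, h₁ (fB b) = h₂ (fB b)) → (∀ a, h₁ (τ' a) = h₂ (τ' a)) → h₁ = h₂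
  inj : Function.Injective (algebraMap C A)
  inv : ∀ a, σ a = τ a ↔ a ∈ Set.range (algebraMap C A)
  inj' : Function.Injective (algebraMap C' A')
  inv' : ∀ a, σ' a = τ' a ↔ a ∈ Set.range (algebraMap C' A')
  link : ∀ {Ω : Type u} [Field Ω] [IsAlgClosed Ω] (x y : A →+* Ω),
    (∀ c, x (algebraMap C A c) = y (algebraMap C A c)) →
      ∃ ψ : B →+* Ω, (∀ a, ψ (τ a) = x a) ∧ ∀ a, ψ (σ a) = y a
  link' : ∀ {Ω : Type u} [Field Ω] [IsAlgClosed Ω] (x y : A' →+* Ω),
    (∀ c, x (algebraMap C' A' c) = y (algebraMap C' A' c)) →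
      ∃ ψ : B' →+* Ω, (∀ a, ψ (τ' a) = x a) ∧ ∀ a, ψ (σ' a) = y a
  stab : ∀ {Ω : Type u} [Field Ω] [IsAlgClosed Ω] (ψ : B' →+* Ω),
    (∀ a, ψ (fB (σ a)) = ψ (fB (τ a))) → ∀ a, ψ (σ' a) = ψ (τ' a)
  finσ : σ.toRingHom.Finite

variable {C A B C' A' B'} (D : Data C A B C' A' B')

namespace Data

include D in
/-- There are finitely many geometric points over a geometric point of the invariants. -/
theorem finite_points [Algebra.IsIntegral C A] {Ω : Type u} [Field Ω] [IsAlgClosed Ω] (φ : C →+* Ω) :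
    Finite {x : A →+* Ω // x.comp (algebraMap C A) = φ} := by
  rcases isEmpty_or_nonempty {x : A →+* Ω // x.comp (algebraMap C A) = φ} with h | ⟨⟨x₀⟩⟩
  · infer_instance
  letI : Algebra A B := D.σ.toRingHom.toAlgebra
  letI : Algebra A Ω := x₀.1.toAlgebra
  haveI : Module.Finite A B := D.finσ
  let F : (Ω ⊗[A] B →ₐ[Ω] Ω) → (A →+* Ω) := fun l =>
    (l.toRingHom.comp (Algebra.TensorProduct.includeRight (R := A)).toRingHom).comp D.τ.toRingHom
  have hsub : {x : A →+* Ω | x.comp (algebraMap C A) = φ} ⊆ Set.range F := by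
    intro x hx
    obtain ⟨ψ, hτ, hσ⟩ := D.link x x₀.1 fun c => DFunLike.congr_fun (hx.trans x₀.2.symm) c
    let ψA : B →ₐ[A] Ω := ⟨ψ, hσ⟩
    refine ⟨Algebra.TensorProduct.lift (Algebra.ofId Ω Ω) ψA fun _ _ => Commute.all _ _, ?_⟩
    refine RingHom.ext fun a => ?_
    show Algebra.TensorProduct.lift (Algebra.ofId Ω Ω) ψA (fun _ _ => Commute.all _ _) ((1 : Ω) ⊗ₜ D.τ a) = x a
    rw [Algebra.TensorProduct.lift_tmul, map_one, one_mul]
    exact hτ a
  exact ((Set.finite_range F).subset hsub).to_subtype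

include D in
/-- Points of the source with the same images in `A` and in the invariants are equal. -/
theorem point_ext {Ω : Type u} [Field Ω] [IsAlgClosed Ω] (x y : A' →+* Ω)
    (hA : ∀ a, x (algebraMap A A' a) = y (algebraMap A A' a))
    (hC : ∀ c, x (algebraMap C' A' c) = y (algebraMap C' A' c)) : x = y := by
  obtain ⟨ψ, hτ, hσ⟩ := D.link' x y hC
  refine RingHom.ext fun a => ?_
  rw [← hτ, ← hσ]
  exact (D.stab ψ (fun a => by rw [← D.σ_comm, ← D.τ_comm, hσ, hτ, hA]) a).symm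

include D in
/-- Points of `A` over the image of a point of the invariants of the source lift. -/
theorem exists_lift {Ω : Type u} [Field Ω] [IsAlgClosed Ω] (y₀ : A' →+* Ω) (x : A →+* Ω)
    (hx : ∀ c, x (algebraMap C A c) = y₀ (algebraMap C A' c)) :
    ∃ x' : A' →+* Ω, x'.comp (algebraMap A A') = x ∧
      ∀ c, x' (algebraMap C' A' c) = y₀ (algebraMap C' A' c) := by
  obtain ⟨ψ, hτ, hσ⟩ := D.link x (y₀.comp (algebraMap A A')) fun c => by
    rw [hx, RingHom.comp_apply, ← IsScalarTower.algebraMap_apply]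
  obtain ⟨h, hh, hhσ⟩ := D.descσ ψ y₀ hσ
  refine ⟨h.comp D.τ'.toRingHom, RingHom.ext fun a => ?_, fun c => ?_⟩
  · show h (D.τ' (algebraMap A A' a)) = x a
    rw [D.τ_comm, hh, hτ]
  · show h (D.τ' (algebraMap C' A' c)) = _
    rw [← (D.inv' _).2 ⟨c, rfl⟩, hhσ]

/-- Over an étale neighbourhood there is an equivariant section through a given orbit. -/
theorem exists_equivariant_section [Algebra.IsIntegral C A] [Algebra.IsIntegral C B]
    [Algebra.Etale A A'] {Ω : Type u} [Field Ω] [IsAlgClosed Ω] (y₀ : A' →+* Ω) :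
    ∃ (C₁ : Type u) (_ : CommRing C₁) (_ : Algebra C C₁), Algebra.Etale C C₁ ∧
      ∃ (φ₁ : C₁ →+* Ω) (η₁ : A' →ₐ[A] A ⊗[C] C₁) (lam : B' →+* B ⊗[C] C₁),
        (∀ b, lam (D.fB b) = b ⊗ₜ 1) ∧
        (∀ a, lam (D.σ' a) = Algebra.TensorProduct.map D.σ (AlgHom.id C C₁) (η₁ a)) ∧
        (∀ a, lam (D.τ' a) = Algebra.TensorProduct.map D.τ (AlgHom.id C C₁) (η₁ a)) ∧
        ∃ ξ : A ⊗[C] C₁ →+* Ω, (∀ c, ξ (1 ⊗ₜ c) = φ₁ c) ∧
          ∀ c, ξ (η₁ (algebraMap C' A' c)) = y₀ (algebraMap C' A' c) := by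
  let φ : C →+* Ω := y₀.comp (algebraMap C A')
  obtain ⟨K, _, _, _, hK, j, hj⟩ := exists_sepClosed_point φ
  haveI : Finite {x : A →+* Ω // x.comp (algebraMap C A) = j.comp (algebraMap C K)} := by
    rw [hj]; exact D.finite_points φ
  choose x' hx' hx'C using
    fun x : {x : A →+* Ω // x.comp (algebraMap C A) = j.comp (algebraMap C K)} =>
      D.exists_lift y₀ x.1 fun c => (DFunLike.congr_fun x.2 c).trans (DFunLike.congr_fun hj c)
  obtain ⟨η, hη⟩ := exists_section hK j x' hx'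
  obtain ⟨C₁, _, _, hC₁, θ, η₁, hη₁⟩ := exists_stage_algHom η
  let φ₁ : C₁ →+* Ω := j.comp ((Hens.point C K).comp θ).toRingHom
  have hφ₁ : ∀ c, φ₁ (algebraMap C C₁ c) = φ c := fun c => by
    show j ((Hens.point C K) (θ (algebraMap C C₁ c))) = _
    rw [AlgHom.commutes, AlgHom.commutes]
    exact DFunLike.congr_fun hj c
  letI : Algebra C Ω := φ.toAlgebra
  let φA : C₁ →ₐ[C] Ω := ⟨φ₁, hφ₁⟩
  -- values of the section at points
  have hval : ∀ (ζ : A ⊗[C] C₁ →+* Ω), (∀ c, ζ (1 ⊗ₜ c) = φ₁ c) →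
      ∃ x₂ : A' →+* Ω, (∀ a, x₂ (algebraMap A A' a) = ζ (a ⊗ₜ 1)) ∧
        (∀ c, x₂ (algebraMap C' A' c) = y₀ (algebraMap C' A' c)) ∧ ∀ y, ζ (η₁ y) = x₂ y := by
    intro ζ hζ
    let xa : A →+* Ω := ζ.comp Algebra.TensorProduct.includeLeftRingHom
    have hxa : ∀ c, xa (algebraMap C A c) = φ c := fun c => by
      rw [← hφ₁, ← hζ]
      show ζ (algebraMap C A c ⊗ₜ 1) = _
      congr 1
      exact ((Algebra.TensorProduct.includeLeft : A →ₐ[C] A ⊗[C] C₁).commutes c).trans
        ((Algebra.TensorProduct.includeRight : C₁ →ₐ[C] A ⊗[C] C₁).commutes c).symm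
    let x : {x : A →+* Ω // x.comp (algebraMap C A) = j.comp (algebraMap C K)} :=
      ⟨xa, RingHom.ext fun c => (hxa c).trans (DFunLike.congr_fun hj c).symm⟩
    let Z : A ⊗[C] Hens.EtLoc C K →ₐ[C] Ω := Algebra.TensorProduct.productMap ⟨xa, hxa⟩
      ⟨j.comp (Hens.point C K).toRingHom, fun c => by
        show j (Hens.point C K (algebraMap C _ c)) = φ c
        rw [AlgHom.commutes]
        exact DFunLike.congr_fun hj c⟩
    refine ⟨x' x, fun a => DFunLike.congr_fun (hx' x) a, hx'C x, fun y => ?_⟩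
    rw [← hη Z.toRingHom (fun h => by simp [Z]) x (fun a => by simp [Z]; rfl) y, ← hη₁]
    generalize η₁ y = z
    induction z using TensorProduct.induction_on with
    | zero => simp
    | add u v hu hv => simp only [map_add, hu, hv]
    | tmul a c =>
      show ζ (a ⊗ₜ c) = Z (Algebra.TensorProduct.map _ θ (a ⊗ₜ c))
      rw [Algebra.TensorProduct.map_tmul, AlgHom.id_apply,
        show a ⊗ₜ[C] c = (a ⊗ₜ 1) * (1 ⊗ₜ c) by simp, map_mul, hζ,
        Algebra.TensorProduct.productMap_apply_tmul]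
      rfl
  obtain ⟨lam₁, hlB, hlσ⟩ := D.descσ (T := B ⊗[C] C₁)
    Algebra.TensorProduct.includeLeftRingHom
    ((Algebra.TensorProduct.map D.σ (AlgHom.id C C₁)).toRingHom.comp η₁.toRingHom) (fun a => by
      show D.σ a ⊗ₜ 1 = Algebra.TensorProduct.map D.σ (AlgHom.id C C₁) (η₁ (algebraMap A A' a))
      rw [AlgHom.commutes, Algebra.TensorProduct.algebraMap_apply, Algebra.algebraMap_self,
        RingHom.id_apply, Algebra.TensorProduct.map_tmul, AlgHom.id_apply])
  letI : Algebra C₁ (B ⊗[C] C₁) := Algebra.TensorProduct.rightAlgebra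
  haveI : Algebra.IsIntegral C₁ (B ⊗[C] C₁) := isIntegral_right C B C₁
  letI : Algebra A (B ⊗[C] C₁) :=
    (Algebra.TensorProduct.includeLeftRingHom.comp D.τ.toRingHom).toAlgebra
  let f : A' →ₐ[A] B ⊗[C] C₁ :=
    { lam₁.comp D.τ'.toRingHom with
      commutes' := fun a => by
        show lam₁ (D.τ' (algebraMap A A' a)) = _
        rw [D.τ_comm, hlB]
        rfl }
  let g : A' →ₐ[A] B ⊗[C] C₁ :=
    { (Algebra.TensorProduct.map D.τ (AlgHom.id C C₁)).toRingHom.comp η₁.toRingHom with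
      commutes' := fun a => by
        show Algebra.TensorProduct.map D.τ (AlgHom.id C C₁) (η₁ (algebraMap A A' a)) = _
        rw [AlgHom.commutes, Algebra.TensorProduct.algebraMap_apply, Algebra.algebraMap_self,
          RingHom.id_apply, Algebra.TensorProduct.map_tmul, AlgHom.id_apply]
        rfl }
  obtain ⟨s, hs, hs'⟩ := exists_smul_eq_of_points f g φ₁ (by
    intro ψ hψ a
    let ζs := ψ.comp (Algebra.TensorProduct.map D.σ (AlgHom.id C C₁)).toRingHom
    let ζt := ψ.comp (Algebra.TensorProduct.map D.τ (AlgHom.id C C₁)).toRingHom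
    have hψr : ∀ c, ψ (1 ⊗ₜ c) = φ₁ c := DFunLike.congr_fun hψ
    obtain ⟨xs, hxsA, hxsC, hxs⟩ := hval ζs fun c => by
      show ψ (Algebra.TensorProduct.map D.σ (AlgHom.id C C₁) (1 ⊗ₜ c)) = _
      rw [Algebra.TensorProduct.map_tmul, map_one, AlgHom.id_apply, hψr]
    obtain ⟨xt, hxtA, hxtC, hxt⟩ := hval ζt fun c => by
      show ψ (Algebra.TensorProduct.map D.τ (AlgHom.id C C₁) (1 ⊗ₜ c)) = _
      rw [Algebra.TensorProduct.map_tmul, map_one, AlgHom.id_apply, hψr]
    have hσψ : ∀ a, ψ (lam₁ (D.σ' a)) = xs a := fun a => by rw [hlσ]; exact hxs a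
    have := D.point_ext ((ψ.comp lam₁).comp D.τ'.toRingHom) xt (fun a => by
        rw [hxtA]
        show ψ (lam₁ (D.τ' (algebraMap A A' a))) = ψ (Algebra.TensorProduct.map D.τ _ (a ⊗ₜ 1))
        rw [D.τ_comm, hlB, Algebra.TensorProduct.map_tmul, AlgHom.id_apply]
        rfl) (fun c => by
        rw [hxtC, ← hxsC]
        show ψ (lam₁ (D.τ' _)) = _
        rw [← (D.inv' _).2 ⟨c, rfl⟩, hσψ])
    exact (DFunLike.congr_fun this a).trans (hxt a).symm)
  let loc : C₁ →ₐ[C] Localization.Away s := IsScalarTower.toAlgHom C C₁ _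
  haveI := Algebra.Etale.of_isLocalizationAway (A := Localization.Away s) s
  let φ₂ : Localization.Away s →+* Ω :=
    IsLocalization.Away.lift s (g := φ₁) (IsUnit.mk0 _ hs)
  have hφ₂ : ∀ c, φ₂ (algebraMap C₁ _ c) = φ₁ c := fun c => IsLocalization.Away.lift_eq s _ c
  let LA : A ⊗[C] C₁ →ₐ[A] A ⊗[C] Localization.Away s :=
    { (Algebra.TensorProduct.map (AlgHom.id C A) loc).toRingHom with
      commutes' := fun a => by
        show Algebra.TensorProduct.map (AlgHom.id C A) loc (a ⊗ₜ 1) = a ⊗ₜ 1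
        simp }
  let LB := Algebra.TensorProduct.map (AlgHom.id C B) loc
  have hLB : ∀ (f : A →ₐ[C] B) (z : A ⊗[C] C₁), LB (Algebra.TensorProduct.map f (AlgHom.id C C₁) z) =
      Algebra.TensorProduct.map f (AlgHom.id C _) (LA z) := by
    intro f z
    show _ = Algebra.TensorProduct.map f _ (Algebra.TensorProduct.map (AlgHom.id C A) loc z)
    induction z using TensorProduct.induction_on with
    | zero => simp
    | add u v hu hv => simp only [map_add, hu, hv]
    | tmul a c => simp [LB]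
  refine ⟨Localization.Away s, _, _, Algebra.Etale.comp C C₁ _, φ₂, LA.comp η₁,
    LB.toRingHom.comp lam₁, fun b => ?_, fun a => ?_, fun a => ?_, ?_⟩
  · show LB (lam₁ (D.fB b)) = _
    rw [hlB]
    simp [LB]
  · show LB (lam₁ (D.σ' a)) = _
    rw [hlσ]
    exact hLB D.σ _
  · show LB (lam₁ (D.τ' a)) = _
    rw [show Algebra.TensorProduct.map D.τ (AlgHom.id C (Localization.Away s)) ((LA.comp η₁) a) =
      LB (g a) from (hLB D.τ _).symm]
    have h := congrArg LB (hs' a)
    rw [map_mul, map_mul] at h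
    refine IsUnit.mul_left_cancel ?_ h
    show IsUnit (LB ((1 : B) ⊗ₜ[C] s))
    rw [Algebra.TensorProduct.map_tmul, AlgHom.id_apply]
    exact (IsLocalization.Away.algebraMap_isUnit (S := Localization.Away s) s).map
      (Algebra.TensorProduct.includeRight (R := C) (A := B))
  · haveI : Algebra.IsIntegral C A := inferInstance
    obtain ⟨xa, hxa⟩ := exists_ringHom_of_isIntegral (S := A) D.inj φ
    let φ₂A : Localization.Away s →ₐ[C] Ω := ⟨φ₂, fun c => by
      show φ₂ (algebraMap C (Localization.Away s) c) = φ c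
      rw [IsScalarTower.algebraMap_apply C C₁ (Localization.Away s), hφ₂, hφ₁]⟩
    let ξ : A ⊗[C] Localization.Away s →ₐ[C] Ω :=
      Algebra.TensorProduct.productMap ⟨xa, fun c => DFunLike.congr_fun hxa c⟩ φ₂A
    refine ⟨ξ.toRingHom, fun c => by simp [ξ]; rfl, fun c => ?_⟩
    obtain ⟨x₁, -, hx₁C, hx₁⟩ := hval (ξ.toRingHom.comp LA.toRingHom) fun c => by
      show ξ (Algebra.TensorProduct.map (AlgHom.id C A) loc (1 ⊗ₜ c)) = _
      rw [Algebra.TensorProduct.map_tmul]
      simp only [ξ, AlgHom.id_apply, Algebra.TensorProduct.productMap_apply_tmul, map_one, one_mul]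
      exact hφ₂ c
    exact (hx₁ _).trans (hx₁C c)

end Data

end Groth.Agent.GrpdLib.EtCart

namespace Groth.Agent.GrpdLib.EtCart

namespace Data

variable {C A B C' A' B' : Type u} [CommRing C] [CommRing A] [CommRing B] [CommRing C'] [CommRing A']
  [CommRing B'] [Algebra C A] [Algebra C B] [Algebra C C'] [Algebra C A'] [Algebra C B']
  [Algebra A A'] [Algebra C' A'] [IsScalarTower C A A'] [IsScalarTower C C' A']
  (D : Data C A B C' A' B')

include D in
/-- An étale chart of the quotient of the source around a given orbit. -/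
theorem exists_chart [Algebra.IsIntegral C A] [Algebra.IsIntegral C B]
    [Algebra.Etale A A'] {Ω : Type u} [Field Ω] [IsAlgClosed Ω] (y₀ : A' →+* Ω) :
    ∃ (C₁ : Type u) (_ : CommRing C₁) (_ : Algebra C C₁) (ρ : C' →ₐ[C] C₁) (η₁ : A' →ₐ[A] A ⊗[C] C₁),
      Algebra.Etale C C₁ ∧ ρ.toRingHom.Etale ∧
      (∀ c, η₁ (algebraMap C' A' c) = 1 ⊗ₜ ρ c) ∧
      (∀ {T : Type u} [CommRing T] [Algebra C T] (u : A' →ₐ[C] T) (v : C₁ →ₐ[C] T),
        (∀ c, u (algebraMap C' A' c) = v (ρ c)) →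
        ∀ a, u a = Algebra.TensorProduct.productMap (u.comp (IsScalarTower.toAlgHom C A A')) v (η₁ a)) ∧
      ∃ φ₁ : C₁ →+* Ω, ∀ c, φ₁ (ρ c) = y₀ (algebraMap C' A' c) := by
  obtain ⟨C₁, _, _, hC₁, φ₁, η₁, lam, hlB, hlσ, hlτ, ξ, hξ, hξy⟩ :=
    D.exists_equivariant_section y₀
  -- the scalars on invariants
  let ι : C →ₗ[C] A := Algebra.linearMap C A
  obtain ⟨hιinj, hιeq⟩ := rTensor_eqLocus ι D.σ.toLinearMap D.τ.toLinearMap D.inj D.inv C₁
  have hι : ∀ c : C₁, ι.rTensor C₁ ((TensorProduct.lid C C₁).symm c) = (1 : A) ⊗ₜ c := fun c => by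
    simp [ι]
  have hmem : ∀ c : C', ∃ r : C₁, (1 : A) ⊗ₜ r = η₁ (algebraMap C' A' c) := fun c => by
    obtain ⟨z, hz⟩ := hιeq (η₁ (algebraMap C' A' c)) (by
      show Algebra.TensorProduct.map D.σ (AlgHom.id C C₁) (η₁ (algebraMap C' A' c)) =
        Algebra.TensorProduct.map D.τ (AlgHom.id C C₁) (η₁ (algebraMap C' A' c))
      rw [← hlσ, ← hlτ, (D.inv' _).2 ⟨c, rfl⟩])
    exact ⟨TensorProduct.lid C C₁ z, by rw [← hι, LinearEquiv.symm_apply_apply, hz]⟩
  choose r hr using hmem
  have hinj1 : Function.Injective fun c : C₁ => (1 : A) ⊗ₜ[C] c := fun c d h => by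
    refine (TensorProduct.lid C C₁).symm.injective (hιinj ?_)
    rw [hι, hι]
    exact h
  let ρ : C' →ₐ[C] C₁ :=
    { toFun := r
      map_one' := hinj1 (by simp [hr, Algebra.TensorProduct.one_def])
      map_mul' := fun a b => hinj1 (by
        show (1 : A) ⊗ₜ[C] r (a * b) = 1 ⊗ₜ[C] (r a * r b)
        rw [show (1 : A) ⊗ₜ[C] (r a * r b) = (1 ⊗ₜ r a) * (1 ⊗ₜ r b) by simp, hr, hr, hr, map_mul,
          map_mul])
      map_zero' := hinj1 (by simp [hr])
      map_add' := fun a b => hinj1 (by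
        show (1 : A) ⊗ₜ[C] r (a + b) = 1 ⊗ₜ[C] (r a + r b)
        rw [TensorProduct.tmul_add, hr, hr, hr, map_add, map_add])
      commutes' := fun c => hinj1 (by
        show (1 : A) ⊗ₜ[C] r (algebraMap C C' c) = 1 ⊗ₜ[C] algebraMap C C₁ c
        rw [hr, ← IsScalarTower.algebraMap_apply, IsScalarTower.algebraMap_apply C A A',
          AlgHom.commutes, Algebra.TensorProduct.algebraMap_apply, Algebra.algebraMap_self,
          RingHom.id_apply]
        exact ((Algebra.TensorProduct.includeLeft : A →ₐ[C] A ⊗[C] C₁).commutes c).trans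
          ((Algebra.TensorProduct.includeRight : C₁ →ₐ[C] A ⊗[C] C₁).commutes c).symm) }
  have hρ : ∀ c, η₁ (algebraMap C' A' c) = 1 ⊗ₜ ρ c := fun c => (hr c).symm
  -- the idempotent cutting out the section
  let ηC : A' →ₐ[C] A ⊗[C] C₁ := η₁.restrictScalars C
  let ηt : A' ⊗[C] C₁ →ₐ[C] A ⊗[C] C₁ :=
    Algebra.TensorProduct.productMap ηC Algebra.TensorProduct.includeRight
  let ιA := Algebra.TensorProduct.map (IsScalarTower.toAlgHom C A A') (AlgHom.id C C₁)
  have hηι : ∀ z, ηt (ιA z) = z := fun z => by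
    induction z using TensorProduct.induction_on with
    | zero => simp
    | add u v hu hv => simp only [map_add, hu, hv]
    | tmul a c => simp [ηt, ιA, ηC]
  let R : A' →ₐ[A] A' ⊗[C] C₁ :=
    { ιA.toRingHom.comp η₁.toRingHom with
      commutes' := fun a => by
        show ιA (η₁ (algebraMap A A' a)) = algebraMap A A' a ⊗ₜ 1
        rw [AlgHom.commutes, Algebra.TensorProduct.algebraMap_apply, Algebra.algebraMap_self,
          RingHom.id_apply]
        simp [ιA] }
  let Φ : A' ⊗[A] A' →ₐ[A] A' ⊗[C] C₁ :=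
    Algebra.TensorProduct.lift Algebra.TensorProduct.includeLeft R fun _ _ => Commute.all _ _
  let e := Φ (Algebra.FormallyUnramified.elem A A')
  have hgen : ∀ a, (a ⊗ₜ[C] (1 : C₁)) * e = ιA (η₁ a) * e := fun a => by
    have := congrArg Φ (Algebra.FormallyUnramified.one_tmul_sub_tmul_one_mul_elem (R := A) a)
    rw [map_mul, map_sub, map_zero, sub_mul, sub_eq_zero] at this
    simpa [Φ, R, e, ← Algebra.TensorProduct.one_def] using this.symm
  have he : ∀ z, z * e = ιA (ηt z) * e := by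
    intro z
    induction z using TensorProduct.induction_on with
    | zero => simp
    | add u v hu hv => simp only [map_add, add_mul, hu, hv]
    | tmul a c =>
      rw [show a ⊗ₜ[C] c = (1 ⊗ₜ c) * (a ⊗ₜ 1) by simp, map_mul, map_mul, mul_assoc, mul_assoc, hgen]
      simp [ηt, ιA, ηC, ← Algebra.TensorProduct.one_def]
  have hηe : ηt e = 1 := by
    let W : A ⊗[C] C₁ →+* A ⊗[C] C₁ := RingHom.id _
    have key : ∀ z : A' ⊗[A] A', ηt (Φ z) = η₁ (Algebra.TensorProduct.lmul' A z) := fun z => by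
      induction z using TensorProduct.induction_on with
      | zero => simp
      | add u v hu hv => simp only [map_add, hu, hv]
      | tmul a b =>
        rw [show Φ (a ⊗ₜ b) = (a ⊗ₜ[C] (1 : C₁)) * ιA (η₁ b) from
          Algebra.TensorProduct.lift_tmul _ _ _ a b, map_mul, hηι,
          Algebra.TensorProduct.lmul'_apply_tmul, map_mul]
        simp [ηt, ηC, ← Algebra.TensorProduct.one_def]
    rw [show ηt e = η₁ (Algebra.TensorProduct.lmul' A (Algebra.FormallyUnramified.elem A A')) from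
      key _, Algebra.FormallyUnramified.lmul_elem, map_one]
  have hee : e * e = e := by rw [he e, hηe, map_one, one_mul]
  -- it is invariant
  let lamC : B' →ₐ[C] B ⊗[C] C₁ := ⟨lam, fun c => by
    show lam (algebraMap C B' c) = _
    rw [show algebraMap C B' c = D.fB (algebraMap C B c) from (D.fB.commutes c).symm, hlB]
    rfl⟩
  let lt : B' ⊗[C] C₁ →ₐ[C] B ⊗[C] C₁ :=
    Algebra.TensorProduct.productMap lamC Algebra.TensorProduct.includeRight
  let ιB := Algebra.TensorProduct.map D.fB (AlgHom.id C C₁)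
  have hltι : ∀ z, lt (ιB z) = z := fun z => by
    induction z using TensorProduct.induction_on with
    | zero => simp
    | add u v hu hv => simp only [map_add, hu, hv]
    | tmul a c => simp [lt, ιB, lamC, hlB]
  have inv_e : ∀ (α : A →ₐ[C] B) (β : A' →ₐ[C] B'), (∀ a, β (algebraMap A A' a) = D.fB (α a)) →
      (∀ a, lam (β a) = Algebra.TensorProduct.map α (AlgHom.id C C₁) (η₁ a)) →
      (∀ {T : Type u} [CommRing T] (h₁ h₂ : B' →+* T),
        (∀ b, h₁ (D.fB b) = h₂ (D.fB b)) → (∀ a, h₁ (β a) = h₂ (β a)) → h₁ = h₂) →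
      lt (Algebra.TensorProduct.map β (AlgHom.id C C₁) e) = 1 ∧
      ∀ z, z * Algebra.TensorProduct.map β (AlgHom.id C C₁) e =
        ιB (lt z) * Algebra.TensorProduct.map β (AlgHom.id C C₁) e := by
    intro α β hcomm hlam hext
    let β₁ := Algebra.TensorProduct.map β (AlgHom.id C C₁)
    let α₁ := Algebra.TensorProduct.map α (AlgHom.id C C₁)
    have h1 : ∀ z, lt (β₁ z) = α₁ (ηt z) := fun z => by
      induction z using TensorProduct.induction_on with
      | zero => simp
      | add u v hu hv => simp only [map_add, hu, hv]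
      | tmul a c => simp [lt, β₁, α₁, ηt, ηC, lamC, hlam]
    have h2 : ∀ z, β₁ (ιA z) = ιB (α₁ z) := fun z => by
      induction z using TensorProduct.induction_on with
      | zero => simp
      | add u v hu hv => simp only [map_add, hu, hv]
      | tmul a c => simp [β₁, α₁, ιA, ιB, hcomm]
    have h3 : ∀ z, β₁ z * β₁ e = ιB (lt (β₁ z)) * β₁ e := fun z => by
      rw [← map_mul, he, map_mul, h2, h1]
    let M : Ideal (B' ⊗[C] C₁) := Ideal.span {1 - β₁ e}
    have hM : ∀ {u v}, u * β₁ e = v * β₁ e ↔ Ideal.Quotient.mk M u = Ideal.Quotient.mk M v := by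
      intro u v
      rw [Ideal.Quotient.eq, Ideal.mem_span_singleton']
      constructor
      · intro h
        exact ⟨u - v, by linear_combination -h⟩
      · rintro ⟨w, hw⟩
        have : β₁ e * β₁ e = β₁ e := by rw [← map_mul, hee]
        linear_combination (-(β₁ e)) * hw - w * this
    have hB : (Ideal.Quotient.mk M).comp (Algebra.TensorProduct.includeLeftRingHom) =
        (Ideal.Quotient.mk M).comp (ιB.toRingHom.comp (lt.toRingHom.comp
          Algebra.TensorProduct.includeLeftRingHom)) := by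
      refine hext _ _ (fun b => hM.1 ?_) fun a => hM.1 ?_
      · show (D.fB b ⊗ₜ[C] (1 : C₁)) * _ = ιB (lt (D.fB b ⊗ₜ[C] (1 : C₁))) * _
        rw [show D.fB b ⊗ₜ[C] (1 : C₁) = ιB (b ⊗ₜ 1) by simp [ιB], hltι]
      · show (β a ⊗ₜ[C] (1 : C₁)) * _ = ιB (lt (β a ⊗ₜ[C] (1 : C₁))) * _
        rw [show β a ⊗ₜ[C] (1 : C₁) = β₁ (a ⊗ₜ 1) by simp [β₁]]
        exact h3 _
    refine ⟨by rw [h1, hηe, map_one], fun z => ?_⟩
    induction z using TensorProduct.induction_on with
    | zero => simp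
    | add u v hu hv => simp only [map_add, add_mul, hu, hv]
    | tmul b c =>
      have hb : (b ⊗ₜ[C] (1 : C₁)) * β₁ e = ιB (lt (b ⊗ₜ[C] (1 : C₁))) * β₁ e :=
        hM.2 (DFunLike.congr_fun hB b)
      rw [show b ⊗ₜ[C] c = (1 ⊗ₜ c) * (b ⊗ₜ 1) by simp, map_mul, map_mul, mul_assoc, mul_assoc, hb]
      simp [ιB, lt, lamC]
      rfl
  obtain ⟨hs1, hs2⟩ := inv_e D.σ D.σ' D.σ_comm hlσ D.extσ
  obtain ⟨ht1, ht2⟩ := inv_e D.τ D.τ' D.τ_comm hlτ D.extτ
  have heq : Algebra.TensorProduct.map D.σ' (AlgHom.id C C₁) e =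
      Algebra.TensorProduct.map D.τ' (AlgHom.id C C₁) e := by
    have a1 := hs2 (Algebra.TensorProduct.map D.τ' (AlgHom.id C C₁) e)
    have a2 := ht2 (Algebra.TensorProduct.map D.σ' (AlgHom.id C C₁) e)
    rw [ht1, map_one, one_mul] at a1
    rw [hs1, map_one, one_mul] at a2
    rw [← a1, mul_comm, a2]
  let inc := Algebra.TensorProduct.map (IsScalarTower.toAlgHom C C' A') (AlgHom.id C C₁)
  obtain ⟨hinc, hinc'⟩ := rTensor_eqLocus (IsScalarTower.toAlgHom C C' A').toLinearMap
    D.σ'.toLinearMap D.τ'.toLinearMap D.inj' D.inv' C₁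
  obtain ⟨e', he'⟩ := hinc' e heq
  change inc e' = e at he'
  have hincinj : Function.Injective inc := hinc
  let ρt : C' ⊗[C] C₁ →ₐ[C] C₁ := Algebra.TensorProduct.productMap ρ (AlgHom.id C C₁)
  have hincη : ∀ z, ηt (inc z) = 1 ⊗ₜ ρt z := fun z => by
    induction z using TensorProduct.induction_on with
    | zero => simp
    | add u v hu hv => simp only [map_add, hu, hv, TensorProduct.tmul_add]
    | tmul a c => simp [ηt, inc, ηC, ρt, hρ]
  have hρe : ρt e' = 1 := hinj1 (by
    show (1 : A) ⊗ₜ[C] ρt e' = 1 ⊗ₜ[C] (1 : C₁)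
    rw [← hincη, he', hηe]; rfl)
  have hze : ∀ z, z * e' = (1 ⊗ₜ ρt z) * e' := fun z => hincinj (by
    rw [map_mul, map_mul, he', he, hincη]
    simp [inc, ιA])
  have hidem : IsIdempotentElem e' := by
    show e' * e' = e'
    rw [hze, hρe]
    exact one_mul _
  refine ⟨C₁, _, _, ρ, η₁, hC₁, ?_, hρ, ?_, φ₁, fun c => ?_⟩
  · letI : Algebra C' C₁ := ρ.toRingHom.toAlgebra
    letI : Algebra (C' ⊗[C] C₁) C₁ := ρt.toRingHom.toAlgebra
    haveI : IsScalarTower C' (C' ⊗[C] C₁) C₁ := .of_algebraMap_eq fun c => by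
      show ρ c = ρt (c ⊗ₜ 1)
      simp [ρt]
    have hsurj : Function.Surjective (algebraMap (C' ⊗[C] C₁) C₁) := fun c =>
      ⟨1 ⊗ₜ c, by show ρt (1 ⊗ₜ c) = c; simp [ρt]⟩
    haveI : IsLocalization.Away e' C₁ := by
      refine IsLocalization.away_of_isIdempotentElem hidem ?_ hsurj
      refine le_antisymm (fun z hz => ?_) ?_
      · have hz0 : ρt z = 0 := hz
        have : z * e' = 0 := by rw [hze, hz0, TensorProduct.tmul_zero, zero_mul]
        rw [Ideal.mem_span_singleton']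
        exact ⟨z, by rw [mul_sub, this, mul_one, sub_zero]⟩
      · rw [Ideal.span_le, Set.singleton_subset_iff]
        show ρt (1 - e') = 0
        rw [map_sub, map_one, hρe, sub_self]
    haveI : Algebra.Etale (C' ⊗[C] C₁) C₁ := Algebra.Etale.of_isLocalizationAway e'
    haveI : Algebra.Etale C' C₁ := Algebra.Etale.comp C' (C' ⊗[C] C₁) C₁
    exact RingHom.etale_algebraMap.2 ‹Algebra.Etale C' C₁›
  · intro T _ _ u v huv a
    let Ψ := Algebra.TensorProduct.productMap u v
    have hΨe : Ψ e = 1 := by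
      rw [← he', show Ψ (inc e') = v (ρt e') by
        generalize e' = z
        induction z using TensorProduct.induction_on with
        | zero => simp
        | add x y hx hy => simp only [map_add, hx, hy]
        | tmul c d => simp [Ψ, inc, ρt, huv], hρe, map_one]
    have h := congrArg Ψ (hgen a)
    rw [map_mul, map_mul, hΨe, mul_one, mul_one] at h
    have hu : Ψ (a ⊗ₜ 1) = u a := by simp [Ψ]
    rw [← hu, h]
    generalize η₁ a = z
    induction z using TensorProduct.induction_on with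
    | zero => simp
    | add x y hx hy => simp only [map_add, hx, hy]
    | tmul c d => simp [Ψ, ιA]
  · rw [← hξ, ← hρ, hξy]

include D in
/-- The invariant ring of the source is étale over that of the target, prime by prime. -/
theorem exists_etale_cover [Algebra.IsIntegral C A] [Algebra.IsIntegral C B] [Algebra.Etale A A']
    [Algebra.IsIntegral C' A'] (q : Ideal C') [q.IsPrime] :
    ∃ (C₁ : Type u) (_ : CommRing C₁) (_ : Algebra C C₁) (ρ : C' →ₐ[C] C₁) (η₁ : A' →ₐ[A] A ⊗[C] C₁),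
      Algebra.Etale C C₁ ∧ ρ.toRingHom.Etale ∧
      (∀ c, η₁ (algebraMap C' A' c) = 1 ⊗ₜ ρ c) ∧
      (∀ {T : Type u} [CommRing T] [Algebra C T] (u : A' →ₐ[C] T) (v : C₁ →ₐ[C] T),
        (∀ c, u (algebraMap C' A' c) = v (ρ c)) →
        ∀ a, u a = Algebra.TensorProduct.productMap (u.comp (IsScalarTower.toAlgHom C A A')) v (η₁ a)) ∧
      ∃ p : Ideal C₁, p.IsPrime ∧ p.comap ρ.toRingHom = q := by
  let Ω := AlgebraicClosure (FractionRing (C' ⧸ q))
  let g : C' →+* Ω :=
    ((algebraMap (FractionRing (C' ⧸ q)) Ω).comp (algebraMap _ _)).comp (Ideal.Quotient.mk q)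
  have hg : RingHom.ker g = q := by
    ext c
    rw [RingHom.mem_ker, ← Ideal.Quotient.eq_zero_iff_mem]
    simp [g]
  obtain ⟨y₀, hy₀⟩ := exists_ringHom_of_isIntegral (S := A') D.inj' g
  obtain ⟨C₁, _, _, ρ, η₁, h₁, h₂, h₃, h₄, φ₁, hφ₁⟩ := D.exists_chart y₀
  refine ⟨C₁, _, _, ρ, η₁, h₁, h₂, h₃, h₄, RingHom.ker φ₁, RingHom.ker_isPrime _, ?_⟩
  rw [RingHom.comap_ker]
  refine (congrArg RingHom.ker ?_).trans hg
  exact RingHom.ext fun c => (hφ₁ c).trans (DFunLike.congr_fun hy₀ c)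

include D in
/-- The square of a cartesian étale morphism with the invariant rings is a pushout. -/
theorem isPushout [Algebra.IsIntegral C A] [Algebra.IsIntegral C B] [Algebra.Etale A A']
    [Algebra.IsIntegral C' A'] :
    Function.Bijective (Algebra.TensorProduct.productMap (IsScalarTower.toAlgHom C A A')
      (IsScalarTower.toAlgHom C C' A')) := by
  letI : Algebra C' (A ⊗[C] C') := Algebra.TensorProduct.rightAlgebra
  haveI : IsScalarTower C C' (A ⊗[C] C') := isScalarTower_right C A C'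
  let μ : A ⊗[C] C' →ₐ[C'] A' :=
    { (Algebra.TensorProduct.productMap (IsScalarTower.toAlgHom C A A')
        (IsScalarTower.toAlgHom C C' A')).toRingHom with
      commutes' := fun c => by
        show Algebra.TensorProduct.productMap _ _ ((1 : A) ⊗ₜ c) = _
        simp }
  have hμ : ∀ a c, μ (a ⊗ₜ c) = algebraMap A A' a * algebraMap C' A' c := fun a c =>
    Algebra.TensorProduct.productMap_apply_tmul (IsScalarTower.toAlgHom C A A')
      (IsScalarTower.toAlgHom C C' A') a c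
  refine ⟨(injective_iff_map_eq_zero _).2 fun z hz => ?_, fun a' => ?_⟩
  · refine eq_zero_of_flat_cover (C' := C') z fun q hq => ?_
    obtain ⟨C₁, _, _, ρ, η₁, h₁, h₂, h₃, -, p, hp, hpq⟩ := D.exists_etale_cover q
    letI : Algebra C' C₁ := ρ.toRingHom.toAlgebra
    haveI : Algebra.Etale C' C₁ := h₂
    haveI : IsScalarTower C C' C₁ := .of_algebraMap_eq' ρ.comp_algebraMap.symm
    refine ⟨C₁, _, _, inferInstance, ⟨p, hp, hpq⟩, ?_⟩
    let G : A ⊗[C] C₁ →ₗ[C] C₁ ⊗[C'] (A ⊗[C] C') :=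
      TensorProduct.lift (LinearMap.mk₂ C (fun a h => h ⊗ₜ[C'] (a ⊗ₜ[C] (1 : C')))
        (fun a b h => by rw [TensorProduct.add_tmul, TensorProduct.tmul_add])
        (fun r a h => by rw [← TensorProduct.smul_tmul', TensorProduct.tmul_smul])
        (fun a h k => by rw [TensorProduct.add_tmul])
        (fun r a h => by rw [TensorProduct.smul_tmul']))
    have hG : ∀ w : A ⊗[C] C', G (η₁ (μ w)) = (1 : C₁) ⊗ₜ[C'] w := by
      intro w
      induction w using TensorProduct.induction_on with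
      | zero => simp
      | add x y hx hy => simp only [map_add, hx, hy, TensorProduct.tmul_add]
      | tmul a c =>
        have e1 : η₁ (algebraMap A A' a * algebraMap C' A' c) = a ⊗ₜ[C] ρ c := by
          rw [map_mul, h₃, AlgHom.commutes, Algebra.TensorProduct.algebraMap_apply]
          simp
        rw [hμ, e1]
        show ρ c ⊗ₜ[C'] (a ⊗ₜ[C] (1 : C')) = _
        rw [show ρ c = c • (1 : C₁) by rw [Algebra.smul_def, mul_one]; rfl, TensorProduct.smul_tmul]
        congr 1
        rw [Algebra.smul_def, Algebra.TensorProduct.right_algebraMap_apply,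
          Algebra.TensorProduct.tmul_mul_tmul, one_mul, mul_one]
    rw [← hG z, show μ z = 0 from hz, map_zero, map_zero]
  · let N : Submodule C' A' := LinearMap.range μ.toLinearMap
    have : Submodule.Quotient.mk (p := N) a' = 0 := by
      refine eq_zero_of_flat_cover (C' := C') _ fun q hq => ?_
      obtain ⟨C₁, _, _, ρ, η₁, h₁, h₂, -, h₄, p, hp, hpq⟩ := D.exists_etale_cover q
      letI : Algebra C' C₁ := ρ.toRingHom.toAlgebra
      haveI : Algebra.Etale C' C₁ := h₂
      haveI : IsScalarTower C C' C₁ := .of_algebraMap_eq' ρ.comp_algebraMap.symm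
      refine ⟨C₁, _, _, inferInstance, ⟨p, hp, hpq⟩, ?_⟩
      let u : A' →ₐ[C] C₁ ⊗[C'] A' :=
        (Algebra.TensorProduct.includeRight : A' →ₐ[C'] C₁ ⊗[C'] A').restrictScalars C
      let v : C₁ →ₐ[C] C₁ ⊗[C'] A' := IsScalarTower.toAlgHom C C₁ _
      have huv : ∀ c, u (algebraMap C' A' c) = v (ρ c) := fun c => by
        show (1 : C₁) ⊗ₜ[C'] algebraMap C' A' c = ρ c ⊗ₜ[C'] (1 : A')
        rw [Algebra.algebraMap_eq_smul_one, ← TensorProduct.smul_tmul, Algebra.smul_def, mul_one]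
        rfl
      have h := h₄ u v huv a'
      show (1 : C₁) ⊗ₜ[C'] N.mkQ a' = 0
      rw [← LinearMap.lTensor_tmul C₁ N.mkQ, show (1 : C₁) ⊗ₜ[C'] a' = u a' from rfl, h]
      generalize η₁ a' = w
      induction w using TensorProduct.induction_on with
      | zero => simp
      | add x y hx hy => rw [map_add, map_add, hx, hy, add_zero]
      | tmul a c =>
        rw [Algebra.TensorProduct.productMap_apply_tmul]
        show N.mkQ.lTensor C₁ (((1 : C₁) ⊗ₜ[C'] algebraMap A A' a) * (c ⊗ₜ[C'] (1 : A'))) = 0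
        rw [Algebra.TensorProduct.tmul_mul_tmul, one_mul, mul_one, LinearMap.lTensor_tmul,
          Submodule.mkQ_apply, (Submodule.Quotient.mk_eq_zero N).2 ⟨a ⊗ₜ 1, by simp [μ]⟩,
          TensorProduct.tmul_zero]
    obtain ⟨z, hz⟩ := (Submodule.Quotient.mk_eq_zero N).1 this
    exact ⟨z, hz⟩

end Data

end Groth.Agent.GrpdLib.EtCart
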