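import Groth.Agent.GrpdLib.EtCart.Core
import Groth.Agent.GrpdLib.AffineGrpd
import Groth.Agent.AlgSpCov.Instances

/-!
# Étale cartesian morphisms of affine finite locally free groupoids
-/

set_option autoImplicit false
set_option maxHeartbeats 400000
set_option linter.style.haveILetI false
set_option backward.isDefEq.respectTransparency false
set_option backward.isDefEq.respectTransparency.types false

universe u

open CategoryTheory CategoryTheory.Limits AlgebraicGeometry

namespace Groth.Agent.GrpdLib.EtCart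

variable {S : Scheme.{u}} {G' G : Grpd.GroupoidScheme S} (f : Grpd.GroupoidScheme.Hom G' G)

lemma appTop_mem_invariants (a : Γ(G.U, ⊤)) (ha : a ∈ G.invariants) :
    f.fU.appTop.hom a ∈ G'.invariants := by
  show G'.s.appTop (f.fU.appTop a) = G'.t.appTop (f.fU.appTop a)
  rw [← ConcreteCategory.comp_apply, ← ConcreteCategory.comp_apply, ← Scheme.Hom.comp_appTop,
    ← Scheme.Hom.comp_appTop, ← f.comm_s, ← f.comm_t, Scheme.Hom.comp_appTop, Scheme.Hom.comp_appTop,
    ConcreteCategory.comp_apply, ConcreteCategory.comp_apply]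
  exact congrArg f.fR.appTop.hom ha

/-- The map on invariant rings. -/
noncomputable def invMap : G.invariants →+* G'.invariants :=
  (f.fU.appTop.hom.comp G.invariants.subtype).codRestrict G'.invariants
    fun a => appTop_mem_invariants f a.1 a.2

lemma invMap_coe (c : G.invariants) : (invMap f c : Γ(G'.U, ⊤)) = f.fU.appTop.hom c.1 := rfl

/-- A geometric point of an affine scheme followed by a map. -/
lemma point_comp {X Y : Scheme.{u}} [IsAffine X] [IsAffine Y] (h : X ⟶ Y) {Ω : Type u} [CommRing Ω]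
    (ψ : Γ(X, ⊤) →+* Ω) :
    (Spec.map (CommRingCat.ofHom ψ) ≫ X.isoSpec.inv) ≫ h =
      Spec.map (CommRingCat.ofHom (ψ.comp h.appTop.hom)) ≫ Y.isoSpec.inv := by
  rw [Category.assoc, ← Scheme.isoSpec_inv_naturality, ← Category.assoc, ← Spec.map_comp]
  rfl

lemma point_inj {X : Scheme.{u}} [IsAffine X] {Ω : Type u} [CommRing Ω] {ψ ψ' : Γ(X, ⊤) →+* Ω}
    (h : Spec.map (CommRingCat.ofHom ψ) ≫ X.isoSpec.inv =
      Spec.map (CommRingCat.ofHom ψ') ≫ X.isoSpec.inv) : ψ = ψ' := by
  rw [cancel_mono] at h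
  exact congrArg CommRingCat.Hom.hom (Spec.map_injective h)

/-- The stabilizer condition on geometric points. -/
lemma stab_point [IsAffine G.U] [IsAffine G.R] [IsAffine G'.U] [IsAffine G'.R]
    (hs : IsPullback f.fR G'.s G.s f.fU)
    (hstab : ∃ g : G'.stabilizer ⟶ G.stabilizer,
      g ≫ pullback.fst G.j G.diag = pullback.fst G'.j G'.diag ≫ f.fR ∧
        IsPullback g G'.stabilizerToU G.stabilizerToU f.fU)
    {Ω : Type u} [Field Ω] (ψ : Γ(G'.R, ⊤) →+* Ω)
    (h : ∀ a, ψ (f.fR.appTop.hom (G.s.appTop.hom a)) = ψ (f.fR.appTop.hom (G.t.appTop.hom a)))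
    (a : Γ(G'.U, ⊤)) : ψ (G'.s.appTop.hom a) = ψ (G'.t.appTop.hom a) := by
  obtain ⟨g, hg, hpb⟩ := hstab
  let r' : Spec (CommRingCat.of Ω) ⟶ G'.R := Spec.map (CommRingCat.ofHom ψ) ≫ G'.R.isoSpec.inv
  have hr : (r' ≫ f.fR) ≫ G.s = (r' ≫ f.fR) ≫ G.t := by
    rw [point_comp, point_comp, point_comp]
    congr 3
    exact RingHom.ext h
  let z₀ : Spec (CommRingCat.of Ω) ⟶ G.stabilizer :=
    pullback.lift (r' ≫ f.fR) ((r' ≫ f.fR) ≫ G.s) (by
      rw [Grpd.GroupoidScheme.j, Grpd.GroupoidScheme.diag]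
      apply pullback.hom_ext
      · simp only [Category.assoc, pullback.lift_fst, Category.comp_id]
        simpa using hr.symm
      · simp)
  obtain ⟨z, hz₁, hz₂⟩ : ∃ z : Spec (CommRingCat.of Ω) ⟶ G'.stabilizer,
      z ≫ g = z₀ ∧ z ≫ G'.stabilizerToU = r' ≫ G'.s := by
    refine ⟨hpb.lift z₀ (r' ≫ G'.s) ?_, hpb.lift_fst _ _ _, hpb.lift_snd _ _ _⟩
    simp only [z₀, Grpd.GroupoidScheme.stabilizerToU, pullback.lift_snd, Category.assoc, f.comm_s]
  have hw := pullback.condition (f := G'.j) (g := G'.diag)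
  have h1 : z ≫ pullback.fst G'.j G'.diag ≫ G'.s = z ≫ G'.stabilizerToU := by
    have := congrArg (fun m => z ≫ m ≫ pullback.snd _ _) hw
    simpa [Grpd.GroupoidScheme.j, Grpd.GroupoidScheme.diag, Grpd.GroupoidScheme.stabilizerToU] using this
  have h2 : z ≫ pullback.fst G'.j G'.diag ≫ G'.t = z ≫ G'.stabilizerToU := by
    have := congrArg (fun m => z ≫ m ≫ pullback.fst _ _) hw
    simpa [Grpd.GroupoidScheme.j, Grpd.GroupoidScheme.diag, Grpd.GroupoidScheme.stabilizerToU] using this
  have hr' : z ≫ pullback.fst G'.j G'.diag = r' := by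
    refine hs.hom_ext ?_ ?_
    · rw [Category.assoc, ← hg, reassoc_of% hz₁]
      exact pullback.lift_fst _ _ _
    · rw [Category.assoc, h1, hz₂]
  have heq : r' ≫ G'.s = r' ≫ G'.t := by
    conv_rhs => rw [← hr', Category.assoc, h2, hz₂]
  rw [point_comp, point_comp] at heq
  exact DFunLike.congr_fun (point_inj heq) a

variable [IsAffine G.U] [IsAffine G.R] [IsAffine G'.U] [IsAffine G'.R]
  [IsFinite G.s] [Flat G.s] [LocallyOfFinitePresentation G.s]
  [IsFinite G'.s] [Flat G'.s] [LocallyOfFinitePresentation G'.s]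

/-- The two conclusions: an étale chart at every point and the pushout square. -/
theorem main (hs : IsPullback f.fR G'.s G.s f.fU) (ht : IsPullback f.fR G'.t G.t f.fU)
    (hstab : ∃ g : G'.stabilizer ⟶ G.stabilizer,
      g ≫ pullback.fst G.j G.diag = pullback.fst G'.j G'.diag ≫ f.fR ∧
        IsPullback g G'.stabilizerToU G.stabilizerToU f.fU) [Etale f.fU] :
    (∀ q : Spec (CommRingCat.of G'.invariants), ∃ (C₁ : CommRingCat.{u})
      (ρ : CommRingCat.of G'.invariants ⟶ C₁),
      Etale (Spec.map ρ) ∧ Etale (Spec.map (CommRingCat.ofHom (invMap f) ≫ ρ)) ∧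
        q ∈ Set.range (Spec.map ρ)) ∧
    IsPushout (CommRingCat.ofHom G.invariants.subtype) (CommRingCat.ofHom (invMap f))
      f.fU.appTop (CommRingCat.ofHom G'.invariants.subtype) := by
  letI : Algebra G.invariants G'.invariants := (invMap f).toAlgebra
  letI : Algebra Γ(G.U, ⊤) Γ(G'.U, ⊤) := f.fU.appTop.hom.toAlgebra
  letI : Algebra G.invariants Γ(G.R, ⊤) := (G.s.appTop.hom.comp G.invariants.subtype).toAlgebra
  letI : Algebra G.invariants Γ(G'.U, ⊤) := (f.fU.appTop.hom.comp G.invariants.subtype).toAlgebra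
  letI : Algebra G.invariants Γ(G'.R, ⊤) :=
    (f.fR.appTop.hom.comp (G.s.appTop.hom.comp G.invariants.subtype)).toAlgebra
  haveI : IsScalarTower G.invariants Γ(G.U, ⊤) Γ(G'.U, ⊤) := .of_algebraMap_eq' rfl
  haveI : IsScalarTower G.invariants G'.invariants Γ(G'.U, ⊤) := .of_algebraMap_eq' rfl
  have hcs : ∀ a, G'.s.appTop.hom (f.fU.appTop.hom a) = f.fR.appTop.hom (G.s.appTop.hom a) := by
    intro a
    have := congrArg (fun m => (Scheme.Hom.appTop m).hom a) f.comm_s
    simpa using this.symm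
  have hct : ∀ a, G'.t.appTop.hom (f.fU.appTop.hom a) = f.fR.appTop.hom (G.t.appTop.hom a) := by
    intro a
    have := congrArg (fun m => (Scheme.Hom.appTop m).hom a) f.comm_t
    simpa using this.symm
  have pos := isPushout_appTop_of_isPullback hs
  have pot := isPushout_appTop_of_isPullback ht
  let D : Data G.invariants Γ(G.U, ⊤) Γ(G.R, ⊤) G'.invariants Γ(G'.U, ⊤) Γ(G'.R, ⊤) :=
    { σ := ⟨G.s.appTop.hom, fun _ => rfl⟩
      τ := ⟨G.t.appTop.hom, fun c => c.2.symm⟩
      σ' := ⟨G'.s.appTop.hom, fun c => hcs c.1⟩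
      τ' := ⟨G'.t.appTop.hom, fun c => (hct c.1).trans (congrArg f.fR.appTop.hom c.2.symm)⟩
      fB := ⟨f.fR.appTop.hom, fun _ => rfl⟩
      σ_comm := hcs
      τ_comm := hct
      descσ := fun {T} _ φ ψ h => by
        let d := pos.desc (CommRingCat.ofHom φ) (CommRingCat.ofHom ψ) (by ext a; exact h a)
        exact ⟨d.hom, fun b => congrArg (fun m => m.hom b)
            (pos.inl_desc (CommRingCat.ofHom φ) (CommRingCat.ofHom ψ) _),
          fun b => congrArg (fun m => m.hom b)
            (pos.inr_desc (CommRingCat.ofHom φ) (CommRingCat.ofHom ψ) _)⟩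
      extσ := fun {T} _ h₁ h₂ ha hb => congrArg CommRingCat.Hom.hom
        (show CommRingCat.ofHom h₁ = CommRingCat.ofHom h₂ from
          pos.hom_ext (by ext b; exact ha b) (by ext b; exact hb b))
      extτ := fun {T} _ h₁ h₂ ha hb => congrArg CommRingCat.Hom.hom
        (show CommRingCat.ofHom h₁ = CommRingCat.ofHom h₂ from
          pot.hom_ext (by ext b; exact ha b) (by ext b; exact hb b))
      inj := Subtype.val_injective
      inv := fun a => ⟨fun h => ⟨⟨a, h⟩, rfl⟩, by rintro ⟨c, rfl⟩; exact c.2⟩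
      inj' := Subtype.val_injective
      inv' := fun a => ⟨fun h => ⟨⟨a, h⟩, rfl⟩, by rintro ⟨c, rfl⟩; exact c.2⟩
      link := fun x y h => by
        obtain ⟨ψ, h₀, h₁⟩ := (ringGrpd G).exists_point_of_eq x y (RingHom.ext h)
        exact ⟨ψ, fun a => DFunLike.congr_fun h₀ a, fun a => DFunLike.congr_fun h₁ a⟩
      link' := fun x y h => by
        obtain ⟨ψ, h₀, h₁⟩ := (ringGrpd G').exists_point_of_eq x y (RingHom.ext h)
        exact ⟨ψ, fun a => DFunLike.congr_fun h₀ a, fun a => DFunLike.congr_fun h₁ a⟩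
      stab := fun ψ h a => stab_point f hs hstab ψ h a
      finσ := (IsFinite.finite_app G.s ⊤ (isAffineOpen_top _)) }
  haveI : Algebra.IsIntegral G.invariants Γ(G.U, ⊤) := (ringGrpd G).isIntegral
  haveI : Algebra.IsIntegral G'.invariants Γ(G'.U, ⊤) := (ringGrpd G').isIntegral
  haveI : Algebra.IsIntegral G.invariants Γ(G.R, ⊤) :=
    ⟨RingHom.IsIntegral.trans (algebraMap G.invariants Γ(G.U, ⊤)) G.s.appTop.hom
      (fun a => Algebra.IsIntegral.isIntegral a)
      (RingHom.Finite.to_isIntegral (IsFinite.finite_app G.s ⊤ (isAffineOpen_top _)))⟩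
  haveI : Algebra.Etale Γ(G.U, ⊤) Γ(G'.U, ⊤) :=
    RingHom.etale_algebraMap.1 (HasRingHomProperty.appTop @Etale f.fU ‹Etale f.fU›)
  refine ⟨fun q => ?_, ?_⟩
  · obtain ⟨C₁, _, _, ρ, η₁, h₁, h₂, -, -, p, hp, hpq⟩ := D.exists_etale_cover q.asIdeal
    refine ⟨CommRingCat.of C₁, CommRingCat.ofHom ρ.toRingHom, ?_, ?_, ⟨p, hp⟩, PrimeSpectrum.ext hpq⟩
    · exact (HasRingHomProperty.Spec_iff (P := @Etale)).2 h₂
    · refine (HasRingHomProperty.Spec_iff (P := @Etale)).2 ?_
      show (ρ.toRingHom.comp (algebraMap G.invariants G'.invariants)).Etale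
      rw [show ρ.toRingHom.comp (algebraMap G.invariants G'.invariants) = algebraMap G.invariants C₁
        from ρ.comp_algebraMap]
      exact RingHom.etale_algebraMap.2 h₁
  · have hb := D.isPushout
    let μ := Algebra.TensorProduct.productMap
      (IsScalarTower.toAlgHom G.invariants Γ(G.U, ⊤) Γ(G'.U, ⊤))
      (IsScalarTower.toAlgHom G.invariants G'.invariants Γ(G'.U, ⊤))
    refine IsPushout.of_iso (CommRingCat.isPushout_tensorProduct G.invariants Γ(G.U, ⊤) G'.invariants)
      (Iso.refl _) (Iso.refl _) (Iso.refl _) (RingEquiv.ofBijective μ hb).toCommRingCatIso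
      (by ext; rfl) (by ext; rfl) ?_ ?_
    · ext a
      show μ (a ⊗ₜ[G.invariants] (1 : G'.invariants)) = f.fU.appTop.hom a
      rw [Algebra.TensorProduct.productMap_apply_tmul, map_one, mul_one]
      rfl
    · ext c
      show μ ((1 : Γ(G.U, ⊤)) ⊗ₜ[G.invariants] c) = (c : Γ(G'.U, ⊤))
      rw [Algebra.TensorProduct.productMap_apply_tmul, map_one, one_mul]
      rfl

omit [IsAffine G.U] [IsAffine G.R] [IsAffine G'.U] [IsAffine G'.R]
  [IsFinite G.s] [Flat G.s] [LocallyOfFinitePresentation G.s]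
  [IsFinite G'.s] [Flat G'.s] [LocallyOfFinitePresentation G'.s] in
lemma toQuot_comp : G'.toQuot ≫ Spec.map (CommRingCat.ofHom (invMap f)) = f.fU ≫ G.toQuot := by
  rw [Grpd.GroupoidScheme.toQuot, Grpd.GroupoidScheme.toQuot, Category.assoc,
    Scheme.toSpecΓ_naturality_assoc, ← Spec.map_comp, ← Spec.map_comp]
  rfl

/-- The induced map on spectra of invariants is étale. -/
theorem etale_quot (hs : IsPullback f.fR G'.s G.s f.fU) (ht : IsPullback f.fR G'.t G.t f.fU)
    (hstab : ∃ g : G'.stabilizer ⟶ G.stabilizer,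
      g ≫ pullback.fst G.j G.diag = pullback.fst G'.j G'.diag ≫ f.fR ∧
        IsPullback g G'.stabilizerToU G.stabilizerToU f.fU) [Etale f.fU] :
    Etale (Spec.map (CommRingCat.ofHom (invMap f))) := by
  choose C₁ ρ h₁ h₂ hq using (main f hs ht hstab).1
  let e : (∐ fun q => Spec (C₁ q)) ⟶ Spec (CommRingCat.of G'.invariants) :=
    Sigma.desc fun q => Spec.map (ρ q)
  haveI : Etale e := IsZariskiLocalAtSource.sigmaDesc h₁
  haveI : Surjective e := ⟨fun q => by
    obtain ⟨p, hp⟩ := hq q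
    refine ⟨Sigma.ι (fun q => Spec (C₁ q)) q p, ?_⟩
    rw [← Scheme.Hom.comp_apply, Sigma.ι_desc]
    exact hp⟩
  refine AlgSpCov.etale_of_comp_smooth e _ ?_
  have : e ≫ Spec.map (CommRingCat.ofHom (invMap f)) =
      Sigma.desc fun q => Spec.map (CommRingCat.ofHom (invMap f) ≫ ρ q) :=
    Sigma.hom_ext _ _ fun q => by simp [e]
  rw [this]
  exact IsZariskiLocalAtSource.sigmaDesc h₂

/-- The square is cartesian, for any map compatible with the quotient maps. -/
theorem isPullback_quot (hs : IsPullback f.fR G'.s G.s f.fU) (ht : IsPullback f.fR G'.t G.t f.fU)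
    (hstab : ∃ g : G'.stabilizer ⟶ G.stabilizer,
      g ≫ pullback.fst G.j G.diag = pullback.fst G'.j G'.diag ≫ f.fR ∧
        IsPullback g G'.stabilizerToU G.stabilizerToU f.fU) [Etale f.fU]
    (g : Spec (CommRingCat.of G'.invariants) ⟶ Spec (CommRingCat.of G.invariants))
    (hg : G'.toQuot ≫ g = f.fU ≫ G.toQuot) : IsPullback f.fU G'.toQuot G.toQuot g := by
  obtain ⟨φ, rfl⟩ := Spec.map_surjective g
  have hφ : φ = CommRingCat.ofHom (invMap f) := by
    have h := hg.trans (toQuot_comp f).symm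
    rw [toQuot_eq, Category.assoc, Category.assoc, cancel_epi, ← Spec.map_comp, ← Spec.map_comp] at h
    ext c
    exact congrArg (fun m => m.hom c) (Spec.map_injective h)
  subst hφ
  refine IsPullback.of_iso (isPullback_SpecMap_of_isPushout _ _ _ _ (main f hs ht hstab).2)
    G'.U.isoSpec.symm G.U.isoSpec.symm (Iso.refl _) (Iso.refl _) ?_ ?_ ?_ ?_
  · exact Scheme.isoSpec_inv_naturality f.fU
  · simp [toQuot_eq]
  · simp [toQuot_eq]
  · simp

end Groth.Agent.GrpdLib.EtCart
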